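import Cfsg.Agent.H779.DP.PSU
import Cfsg.Agent.H623.DpPsu3B

/-!
# The row `PSU` of S2454
-/

set_option autoImplicit false

namespace Cfsg.Agent.H779.DP

open Cfsg Cfsg.Agent.H514.DP

/-- **The row `PSU_n(q)` of S2454.** -/
theorem pw_psu {S : Type*} [Group S] [Finite S] [IsSimpleGroup S] {l : ℕ} (h : IsPSUChar l S) {p : ℕ} (hp : p.Prime)
    (hdv : p ∣ Nat.card S) : PW p 70 S := by
  refine pw_psu_of h hp hdv fun F _ _ q hF hq2 ⟨e⟩ => ?_
  have hq := Cfsg.Agent.LieClassical.HermBasic.two_le hF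
  rw [Nat.card_congr e.toEquiv] at hdv
  have hcd : p ∣ Nat.card (SU 3 F q) := hdv.trans (Subgroup.card_quotient_dvd_card _)
  exact PW.congr (PW.map (Cfsg.Agent.H623.DpPsu3.pw_su3 hF (by omega) hp hcd) (QuotientGroup.mk' _)
    (QuotientGroup.mk'_surjective _)) e.symm |>.mono (by norm_num)

end Cfsg.Agent.H779.DP
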