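import Mathlib
import Cfsg.Agent.H152.SUClass
import Cfsg.Agent.H514.DP.Core

/-!
# `k(PSU_4(2)), k(PSU_4(3)) ≤ 71` (S2454, row PSU)

From `Cfsg.Agent.H152.card_classes_mul_le`: `k(SU_4(3)) ≤ 71`, `k(SU_4(2)) ≤ 20`.
-/

set_option autoImplicit false

namespace Cfsg.Agent.H779.DP

open Cfsg Cfsg.Agent.H152 Finset

theorem card_roots {K : Type*} [Field K] [Fintype K] {q : ℕ} (hK : Fintype.card K = q ^ 2) (hq : 2 ≤ q) :
    Nat.card (rootsOfUnity (q + 1) K) = q + 1 := by
  classical
  obtain ⟨g, hg⟩ := IsCyclic.exists_generator (α := Kˣ)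
  have h1 : orderOf g = (q + 1) * (q - 1) := by
    rw [orderOf_eq_card_of_forall_mem_zpowers hg, Nat.card_eq_fintype_card, Fintype.card_units, hK]
    obtain ⟨t, rfl⟩ : ∃ t, q = t + 1 := ⟨q - 1, by omega⟩
    rw [Nat.add_sub_cancel]
    have : (t + 1) ^ 2 = (t + 1 + 1) * t + 1 := by ring
    omega
  have h2 : orderOf (g ^ (q - 1)) = q + 1 := by
    rw [orderOf_pow' g (by omega), h1, Nat.gcd_eq_right (Nat.dvd_mul_left _ _)]
    exact Nat.mul_div_cancel _ (by omega)
  have h3 : IsPrimitiveRoot (g ^ (q - 1)) (q + 1) := by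
    have := IsPrimitiveRoot.orderOf (g ^ (q - 1))
    rwa [h2] at this
  have h4 : IsPrimitiveRoot ((g ^ (q - 1) : Kˣ) : K) (q + 1) := IsPrimitiveRoot.coe_units_iff.mpr h3
  exact h4.card_rootsOfUnity

theorem kc_quot {G : Type*} [Group G] [Finite G] (N : Subgroup G) [N.Normal] :
    Nat.card (ConjClasses (G ⧸ N)) ≤ Nat.card (ConjClasses G) := by
  refine Nat.card_le_card_of_surjective (ConjClasses.map (QuotientGroup.mk' N)) ?_
  exact ConjClasses.map_surjective (QuotientGroup.mk'_surjective N)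

/-- `k(SU_4(3)) ≤ 71` -/
theorem card_classes_SU43 {K : Type*} [Field K] [Fintype K] (hK : Fintype.card K = 3 ^ 2) :
    Nat.card (ConjClasses (SU 4 K 3)) ≤ 71 := by
  classical
  have hc := card_roots hK (by norm_num)
  have hc' : Fintype.card (rootsOfUnity (3 + 1) K) = 4 := by rw [← Nat.card_eq_fintype_card, hc]
  have h1 := card_classes_mul_le hK 4
  rw [hc] at h1
  let C := rootsOfUnity (3 + 1) K
  have hS : (Finset.univ.filter fun a : C => a ^ 2 = 1).card ≤ 2 := IsCyclic.card_pow_eq_one_le (by norm_num)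
  have key : ∀ p : C × C, (if Nat.lcm (orderOf p.1) (orderOf p.2) ∣ 4 then
      Model.K (Model.w (3 + 1) 3) (4 / Nat.lcm (orderOf p.1) (orderOf p.2))
        (4 / Nat.lcm (orderOf p.1) (orderOf p.2)) else 0) ≤
      (4 + (if p ∈ (Finset.univ.filter fun a : C => a ^ 2 = 1) ×ˢ (Finset.univ.filter fun a : C => a ^ 2 = 1) then 12
        else 0)) + (if p = 1 then 172 else 0) := by
    intro p
    have hL : Nat.lcm (orderOf p.1) (orderOf p.2) ∣ 4 := by
      refine Nat.lcm_dvd ?_ ?_
      · rw [← hc']; exact orderOf_dvd_card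
      · rw [← hc']; exact orderOf_dvd_card
    rw [if_pos hL]
    have h1L := Nat.dvd_lcm_left (orderOf p.1) (orderOf p.2)
    have h2L := Nat.dvd_lcm_right (orderOf p.1) (orderOf p.2)
    obtain ⟨L, hLe⟩ : ∃ L, L = Nat.lcm (orderOf p.1) (orderOf p.2) := ⟨_, rfl⟩
    rw [← hLe] at hL h1L h2L ⊢
    have hL4 : L ≤ 4 := Nat.le_of_dvd (by norm_num) hL
    have hmem : ∀ k, L ∣ k → p.1 ^ k = 1 ∧ p.2 ^ k = 1 := fun k hk =>
      ⟨orderOf_dvd_iff_pow_eq_one.1 (h1L.trans hk), orderOf_dvd_iff_pow_eq_one.1 (h2L.trans hk)⟩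
    interval_cases L
    · norm_num at hL
    · have h3 := hmem 1 (dvd_refl 1)
      rw [pow_one, pow_one] at h3
      have h4 : p = 1 := Prod.ext h3.1 h3.2
      rw [if_pos h4, if_pos (by
        rw [h4, Finset.mem_product, Finset.mem_filter, Finset.mem_filter]
        simp)]
      decide
    · have h3 := hmem 2 (dvd_refl 2)
      rw [if_pos (by
        rw [Finset.mem_product, Finset.mem_filter, Finset.mem_filter]
        exact ⟨⟨Finset.mem_univ _, h3.1⟩, Finset.mem_univ _, h3.2⟩)]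
      have : Model.K (Model.w (3 + 1) 3) (4 / 2) (4 / 2) = 16 := by decide
      omega
    · norm_num at hL
    · have : Model.K (Model.w (3 + 1) 3) (4 / 4) (4 / 4) = 4 := by decide
      omega
  have h2 : Nat.card (ConjClasses (SU 4 K 3)) * (3 + 1) ≤ 284 := by
    refine h1.trans ((Finset.sum_le_sum fun p _ => key p).trans ?_)
    rw [Finset.sum_add_distrib, Finset.sum_add_distrib, Finset.sum_const, Finset.card_univ, Fintype.card_prod]
    rw [Finset.sum_ite_mem, Finset.univ_inter, Finset.sum_const, Finset.card_product, Finset.sum_ite_eq',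
      if_pos (Finset.mem_univ _)]
    have h5 : (Finset.univ.filter fun a : C => a ^ 2 = 1).card * (Finset.univ.filter fun a : C => a ^ 2 = 1).card ≤ 2 * 2 :=
      Nat.mul_le_mul hS hS
    have h6 : Fintype.card C = 4 := hc'
    rw [h6]
    simp only [smul_eq_mul]
    omega
  omega

/-- `k(SU_4(2)) ≤ 20` -/
theorem card_classes_SU42 {K : Type*} [Field K] [Fintype K] (hK : Fintype.card K = 2 ^ 2) :
    Nat.card (ConjClasses (SU 4 K 2)) ≤ 20 := by
  classical
  have hc := card_roots hK (by norm_num)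
  have hc' : Fintype.card (rootsOfUnity (2 + 1) K) = 3 := by rw [← Nat.card_eq_fintype_card, hc]
  have h1 := card_classes_mul_le hK 4
  rw [hc] at h1
  let C := rootsOfUnity (2 + 1) K
  have key : ∀ p : C × C, (if Nat.lcm (orderOf p.1) (orderOf p.2) ∣ 4 then
      Model.K (Model.w (2 + 1) 2) (4 / Nat.lcm (orderOf p.1) (orderOf p.2))
        (4 / Nat.lcm (orderOf p.1) (orderOf p.2)) else 0) ≤ (if p = 1 then 60 else 0) := by
    intro p
    have hL : Nat.lcm (orderOf p.1) (orderOf p.2) ∣ 3 := by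
      refine Nat.lcm_dvd ?_ ?_
      · rw [← hc']; exact orderOf_dvd_card
      · rw [← hc']; exact orderOf_dvd_card
    have h1L := Nat.dvd_lcm_left (orderOf p.1) (orderOf p.2)
    have h2L := Nat.dvd_lcm_right (orderOf p.1) (orderOf p.2)
    obtain ⟨L, hLe⟩ : ∃ L, L = Nat.lcm (orderOf p.1) (orderOf p.2) := ⟨_, rfl⟩
    rw [← hLe] at hL h1L h2L ⊢
    rcases (Nat.dvd_prime Nat.prime_three).1 hL with rfl | rfl
    · have h4 : p = 1 := Prod.ext (orderOf_eq_one_iff.1 (Nat.dvd_one.1 h1L)) (orderOf_eq_one_iff.1 (Nat.dvd_one.1 h2L))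
      rw [if_pos h4, if_pos (by norm_num)]
      decide
    · rw [if_neg (by norm_num)]
      exact Nat.zero_le _
  have h2 : Nat.card (ConjClasses (SU 4 K 2)) * (2 + 1) ≤ 60 := by
    refine h1.trans ((Finset.sum_le_sum fun p _ => key p).trans ?_)
    rw [Finset.sum_ite_eq', if_pos (Finset.mem_univ _)]
  omega

open Cfsg.Agent.H514.DP in
/-- `PSU_4(2)`, `PSU_4(3)`. -/
theorem pw_psu_four {S : Type*} [Group S] [Finite S] [IsSimpleGroup S] {K : Type*} [Field K] [Fintype K] {q : ℕ}
    (hK : Fintype.card K = q ^ 2) (hq : q = 2 ∨ q = 3) (e : S ≃* PSU 4 K q) {p : ℕ} (hp : p.Prime)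
    (hd : p ∣ Nat.card S) : PW p 70 S := by
  apply PW.of_classes hp hd
  have h0 : Nat.card (ConjClasses S) = Nat.card (ConjClasses (PSU 4 K q)) := by
    apply le_antisymm
    · exact Nat.card_le_card_of_surjective (ConjClasses.map e.symm.toMonoidHom) (ConjClasses.map_surjective e.symm.surjective)
    · have : Finite (PSU 4 K q) := Finite.of_equiv S e.toEquiv
      exact Nat.card_le_card_of_surjective (ConjClasses.map e.toMonoidHom) (ConjClasses.map_surjective e.surjective)
  rw [h0]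
  refine (kc_quot (Subgroup.center (SU 4 K q))).trans ?_
  rcases hq with rfl | rfl
  · exact (card_classes_SU42 hK).trans (by norm_num)
  · exact card_classes_SU43 hK

end Cfsg.Agent.H779.DP
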