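import Mathlib
import Cfsg.Agent.GpUn.Row
import Cfsg.Agent.H948.UProd
import Cfsg.Agent.H524.LinReg
import Cfsg.Agent.LieClassical.HermCount

/-!
# Centralizers of elements of prime order `p` of `SU_n(q)`, `p ∣ q^j + 1`, `j` odd, `n < 2 j` (S2454, row PSU)

* `eq_one_of_fix` : an element of `SU_n` trivial on `U^⊥`, `U` nondegenerate of dimension at most one, is trivial;
* `card_centralizer_prime_le` : `x` of order `p`, `j` odd the order of `q ^ 2` modulo `p`, `n < 2 j`:
  `|C(x)| ≤ (q ^ j + 1) |SU_(n-j)(q)|`.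
-/

set_option autoImplicit false
set_option linter.unusedSectionVars false

namespace Cfsg.Agent.H779.DP

open Cfsg Module Matrix Cfsg.Agent.LieClassical.HermBasic Cfsg.Agent.LieClassical.HermSiegel
open Cfsg.Agent.ClassicalGeometry.HermOrtho Cfsg.Agent.GpUn Cfsg.Agent.LieClassical.HermCount

variable {F : Type*} [Field F] {q n : ℕ}

theorem su_subsingleton {m : ℕ} (hm : m ≤ 1) : Subsingleton (SU m F q) := by
  refine ⟨fun g h => ?_⟩
  apply mat_injective
  have hg := det_mat g
  have hh := det_mat h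
  interval_cases m
  · exact Subsingleton.elim _ _
  · ext i j
    rw [Subsingleton.elim i 0, Subsingleton.elim j 0]
    rw [det_fin_one] at hg hh
    rw [hg, hh]

variable [Fintype F]

/-- An element of `SU` trivial on `U^⊥`, `U` nondegenerate of dimension at most one. -/
theorem eq_one_of_fix (hF : Fintype.card F = q ^ 2) {U : Submodule F (Fin n → F)} (hU : ND q U)
    (h1 : finrank F U ≤ 1) {k : SU n F q} (hk : ∀ w ∈ hermPerp q (U : Set (Fin n → F)), act k w = w) : k = 1 := by
  obtain ⟨e⟩ := exists_equiv hF U hU rfl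
  have : Subsingleton (SU (finrank F U) F q) := su_subsingleton h1
  have h2 : (⟨k, hk⟩ : fixG q (hermPerp q (U : Set (Fin n → F)))) = 1 := e.symm.injective (Subsingleton.elim _ _)
  exact congrArg Subtype.val h2

/-- the natural representation -/
def rho (n : ℕ) (F : Type*) [Field F] (q : ℕ) : SU n F q →* Module.End F (Fin n → F) where
  toFun g := Matrix.toLin' (mat g)
  map_one' := by rw [mat_one, Matrix.toLin'_one]; rfl
  map_mul' g h := by rw [mat_mul, Matrix.toLin'_mul]; rfl

omit [Fintype F] in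
theorem rho_apply (g : SU n F q) (v : Fin n → F) : rho n F q g v = act g v := Matrix.toLin'_apply _ _

omit [Fintype F] in
theorem rho_injective : Function.Injective (rho n F q) := by
  intro g h hgh
  apply mat_injective
  exact Matrix.toLin'.injective hgh

theorem fx_rho (g : SU n F q) : Cfsg.Agent.H524.LinReg.fx (rho n F q) g = fx g := by
  ext v
  rw [Cfsg.Agent.H524.LinReg.mem_fx, rho_apply, mem_fx]

/-- the number of vectors of a given norm of a nondegenerate subspace -/
theorem card_norm_sub (hF : Fintype.card F = q ^ 2) {W : Submodule F (Fin n → F)} (hW : ND q W) {m : ℕ}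
    (hm : finrank F W = m) (c : F) :
    Nat.card {v : Fin n → F // v ∈ W ∧ hermForm n F q v v = c} =
      Nat.card {v : Fin m → F // hermForm m F q v v = c} := by
  obtain ⟨b, hbW, hb⟩ := exists_orthonormal hF W hW hm
  have hk : finrank F W = Fintype.card (Fin m) := by rw [hm, Fintype.card_fin]
  have hform : ∀ c c' : Fin m → F, hermForm n F q (∑ i, c i • b i) (∑ i, c' i • b i) = hermForm m F q c c' := by
    intro c c'
    rw [herm_sum_right hF, herm_def]
    refine Finset.sum_congr rfl fun i _ => ?_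
    rw [herm_smul_right, herm_sum_smul_left hb, mul_comm]
  refine Nat.card_congr ⟨fun v => ⟨fun i => hermForm n F q v.1 (b i), ?_⟩, fun c => ⟨∑ i, c.1 i • b i, ?_, ?_⟩, ?_, ?_⟩
  · have h1 := v.2.2
    rw [eq_sum_of_orthonormal W hk hbW hb v.2.1, hform] at h1
    exact h1
  · exact W.sum_mem fun i _ => W.smul_mem _ (hbW i)
  · rw [hform]
    exact c.2
  · intro v
    exact Subtype.ext (eq_sum_of_orthonormal W hk hbW hb v.2.1).symm
  · intro c
    apply Subtype.ext
    funext i
    exact herm_sum_smul_left hb c.1 i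

/-- A group all of whose point stabilizers are `N`. -/
theorem index_dvd {C Y : Type*} [Group C] [MulAction C Y] [Finite Y] (N : Subgroup C)
    (h : ∀ y : Y, MulAction.stabilizer C y = N) : N.index ∣ Nat.card Y := by
  classical
  have := Fintype.ofFinite Y
  have : Fintype (MulAction.orbitRel.Quotient C Y) := Fintype.ofFinite _
  rw [Nat.card_congr (MulAction.selfEquivSigmaOrbits' C Y), Nat.card_sigma]
  refine Finset.dvd_sum fun ω _ => ?_
  induction ω using Quotient.inductionOn' with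
  | h y =>
    rw [MulAction.orbitRel.Quotient.orbit_mk]
    have h1 := MulAction.index_stabilizer C (x := y)
    rw [h y] at h1
    rw [h1, Nat.card_coe_set_eq]

section Prime

variable {p j : ℕ} {x : SU n F q}

/-- the irreducible part -/
abbrev Wx (x : SU n F q) : Submodule F (Fin n → F) := hermPerp q (fx x : Set (Fin n → F))

theorem nd_fx (hF : Fintype.card F = q ^ 2) (hpF : (p : F) ≠ 0) (hx : x ^ p = 1) : ND q (fx x) := by
  have h1 := nd_inf_fx hF hpF (nd_top hF) hx (fun _ _ => trivial)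
  rwa [top_inf_eq] at h1

theorem act_fx {g : SU n F q} (hg : g * x = x * g) {v : Fin n → F} (hv : v ∈ fx x) : act g v ∈ fx x := by
  rw [mem_fx] at hv ⊢
  rw [← act_mul, ← hg, act_mul, hv]

theorem act_Wx {g : SU n F q} (hg : g * x = x * g) {v : Fin n → F} (hv : v ∈ Wx x) : act g v ∈ Wx x := by
  refine act_perp (U := fx x) (fun u hu => ?_) hv
  refine act_fx ?_ hu
  calc g⁻¹ * x = g⁻¹ * (x * g) * g⁻¹ := by group
    _ = g⁻¹ * (g * x) * g⁻¹ := by rw [hg]
    _ = x * g⁻¹ := by group

theorem finrank_fx (hp : p.Prime) (hx : x ^ p = 1) (hx1 : x ≠ 1)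
    (hj : orderOf ((Nat.card F : ℕ) : ZMod p) = j) (hj0 : j ≠ 0) (hn : n < 2 * j) : finrank F (fx x) + j = n := by
  obtain ⟨h1, h2⟩ := Cfsg.Agent.H524.LinReg.fx_top (rho n F q) hp rho_injective (a := x) (n := 1)
    (by rw [pow_one, hx]) hx1 hj hj0
  rw [fx_rho, finrank_fin_fun] at h1 h2
  obtain ⟨c, hc⟩ := h1
  have h3 : c = 1 := by
    rcases c with _ | _ | c
    · omega
    · rfl
    · have : j * (c + 1 + 1) = j * c + 2 * j := by ring
      omega
  rw [h3, mul_one] at hc
  omega

theorem finrank_Wx (hF : Fintype.card F = q ^ 2) (hp : p.Prime) (hpF : (p : F) ≠ 0) (hx : x ^ p = 1) (hx1 : x ≠ 1)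
    (hj : orderOf ((Nat.card F : ℕ) : ZMod p) = j) (hj0 : j ≠ 0) (hn : n < 2 * j) : finrank F (Wx x) = j := by
  have h1 : finrank F (fx x) + finrank F (Wx x) = n := finrank_hermPerp_of_nondeg hF (fx x) (nd_fx hF hpF hx)
  have h2 := finrank_fx hp hx hx1 hj hj0 hn
  omega

/-- irreducibility -/
theorem eq_Wx (hF : Fintype.card F = q ^ 2) (hp : p.Prime) (hpF : (p : F) ≠ 0) (hx : x ^ p = 1) (hx1 : x ≠ 1)
    (hj : orderOf ((Nat.card F : ℕ) : ZMod p) = j) (hj0 : j ≠ 0) (hn : n < 2 * j) {U : Submodule F (Fin n → F)}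
    (hU : U ≤ Wx x) (hUx : ∀ u ∈ U, act x u ∈ U) (hU0 : U ≠ ⊥) : U = Wx x := by
  have h1 := Cfsg.Agent.H524.LinReg.dvd_finrank (rho n F q) hp (a := x) (n := 1) (by rw [pow_one, hx]) hj hj0 (U := U)
    (fun u hu => by rw [rho_apply]; exact hUx u hu)
  have h2 : (U ⊓ fx x : Submodule F (Fin n → F)) = ⊥ := by
    rw [Submodule.eq_bot_iff]
    intro u hu
    exact nd_fx hF hpF hx u hu.2 (fun v hv => hU hu.1 v hv)
  rw [fx_rho, h2, finrank_bot, Nat.sub_zero] at h1
  have h3 : 0 < finrank F U := by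
    rw [Nat.pos_iff_ne_zero]
    intro h
    exact hU0 (Submodule.finrank_eq_zero.1 h)
  apply Submodule.eq_of_le_of_finrank_le hU
  rw [finrank_Wx hF hp hpF hx hx1 hj hj0 hn]
  exact Nat.le_of_dvd h3 h1

theorem index_dvd_norm (hF : Fintype.card F = q ^ 2) (hp : p.Prime) (hpF : (p : F) ≠ 0) (hx : x ^ p = 1) (hx1 : x ≠ 1)
    (hj : orderOf ((Nat.card F : ℕ) : ZMod p) = j) (hj0 : j ≠ 0) (hn : n < 2 * j) (c : F) :
    ((fixG q (Wx x)).subgroupOf (Subgroup.centralizer ({x} : Set (SU n F q)))).index ∣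
      Nat.card {v : Fin n → F // (v ∈ Wx x ∧ hermForm n F q v v = c) ∧ v ≠ 0} := by
  let _ : MulAction (Subgroup.centralizer ({x} : Set (SU n F q)))
      {v : Fin n → F // (v ∈ Wx x ∧ hermForm n F q v v = c) ∧ v ≠ 0} :=
    { smul := fun g v => ⟨act g.1 v.1, ⟨act_Wx (Subgroup.mem_centralizer_singleton_iff.1 g.2) v.2.1.1, by
        rw [herm_act]; exact v.2.1.2⟩, fun h => v.2.2 ((act_eq_zero _).1 h)⟩
      one_smul := fun v => Subtype.ext (act_one _)
      mul_smul := fun g h v => Subtype.ext (act_mul _ _ _) }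
  refine index_dvd _ fun v => ?_
  ext g
  rw [MulAction.mem_stabilizer_iff, Subgroup.mem_subgroupOf]
  have hg : (g : SU n F q) * x = x * g := Subgroup.mem_centralizer_singleton_iff.1 g.2
  constructor
  · intro h
    have h1 : act g.1 v.1 = v.1 := congrArg Subtype.val h
    have h2 : (Wx x ⊓ fx g.1 : Submodule F (Fin n → F)) = Wx x := by
      refine eq_Wx hF hp hpF hx hx1 hj hj0 hn inf_le_left (fun u hu => ⟨act_Wx rfl hu.1, act_fx hg.symm hu.2⟩) ?_
      intro h3
      have h4 : v.1 ∈ (Wx x ⊓ fx g.1 : Submodule F (Fin n → F)) := ⟨v.2.1.1, h1⟩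
      rw [h3, Submodule.mem_bot] at h4
      exact v.2.2 h4
    intro w hw
    rw [← h2] at hw
    exact hw.2
  · intro h
    exact Subtype.ext (h v.1 v.2.1.1)

theorem index_le (hF : Fintype.card F = q ^ 2) (hp : p.Prime) (hpF : (p : F) ≠ 0) (hx : x ^ p = 1) (hx1 : x ≠ 1)
    (hj : orderOf ((Nat.card F : ℕ) : ZMod p) = j) (hodd : Odd j) (hn : n < 2 * j) :
    ((fixG q (Wx x)).subgroupOf (Subgroup.centralizer ({x} : Set (SU n F q)))).index ∣ q ^ j + 1 := by
  classical
  have hj0 : j ≠ 0 := by rintro rfl; exact absurd hodd (by decide)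
  have hnd : ND q (Wx x) := hermPerp_nondeg hF (fx x) (nd_fx hF hpF hx)
  have hfr := finrank_Wx hF hp hpF hx hx1 hj hj0 hn
  have hne : ¬ Even j := Nat.not_even_iff_odd.2 hodd
  have hq := two_le hF
  -- vectors of norm one
  have h1 := index_dvd_norm hF hp hpF hx hx1 hj hj0 hn 1
  have e1 : Nat.card {v : Fin n → F // (v ∈ Wx x ∧ hermForm n F q v v = 1) ∧ v ≠ 0} = q ^ (j - 1) * (q ^ j + 1) := by
    rw [← (card_norm_one hF j).trans (if_neg hne), ← card_norm_sub hF hnd hfr]
    refine Nat.card_congr (Equiv.subtypeEquivRight fun v => ⟨fun h => h.1, fun h => ⟨h, ?_⟩⟩)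
    rintro rfl
    rw [herm_zero_left] at h
    exact zero_ne_one h.2
  have h2 := index_dvd_norm hF hp hpF hx hx1 hj hj0 hn 0
  have e2 : Nat.card {v : Fin n → F // (v ∈ Wx x ∧ hermForm n F q v v = 0) ∧ v ≠ 0} + 1 =
      (q ^ j + 1) * (q ^ (j - 1) - 1) + 1 := by
    have h3 := (card_isotropic hF j)
    rw [if_neg hne, ← card_norm_sub hF hnd hfr 0] at h3
    rw [← h3, ← Finite.card_option]
    refine Nat.card_congr ⟨fun o => o.elim ⟨0, (Wx x).zero_mem, herm_zero_left _⟩ (fun v => ⟨v.1, v.2.1⟩),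
      fun v => if h : v.1 = 0 then none else some ⟨v.1, v.2, h⟩, ?_, ?_⟩
    · intro o
      cases o with
      | none => simp
      | some v => simp [v.2.2]
    · intro v
      by_cases h : v.1 = 0
      · simp only [h, dite_true, Option.elim]
        exact Subtype.ext h.symm
      · simp only [h, dite_false, Option.elim]
  rw [e1] at h1
  rw [Nat.add_right_cancel e2] at h2
  have h4 := Nat.dvd_gcd h1 h2
  have h5 : Nat.gcd (q ^ (j - 1) * (q ^ j + 1)) ((q ^ j + 1) * (q ^ (j - 1) - 1)) = q ^ j + 1 := by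
    rw [mul_comm (q ^ (j - 1)), Nat.gcd_mul_left]
    have h6 : Nat.gcd (q ^ (j - 1)) (q ^ (j - 1) - 1) = 1 := by
      have h7 : 1 ≤ q ^ (j - 1) := Nat.one_le_pow _ _ (by omega)
      have h8 : q ^ (j - 1) = (q ^ (j - 1) - 1) + 1 := by omega
      rw [h8]
      simp
    rw [h6, mul_one]
  rwa [h5] at h4

/-- **Centralizers of elements of order `p`.** -/
theorem card_centralizer_prime_le (hF : Fintype.card F = q ^ 2) (hp : p.Prime) (hpF : (p : F) ≠ 0) (hx : x ^ p = 1)
    (hx1 : x ≠ 1) (hj : orderOf ((Nat.card F : ℕ) : ZMod p) = j) (hodd : Odd j) (hn : n < 2 * j) {m : ℕ}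
    (hm : m + j = n) :
    Nat.card (Subgroup.centralizer ({x} : Set (SU n F q))) ≤ (q ^ j + 1) * Nat.card (SU m F q) := by
  have hj0 : j ≠ 0 := by rintro rfl; exact absurd hodd (by decide)
  have h1 := index_le hF hp hpF hx hx1 hj hodd hn
  have h2 := Nat.le_of_dvd (by positivity) h1
  have hfr := finrank_fx hp hx hx1 hj hj0 hn
  obtain ⟨e⟩ := exists_equiv hF (fx x) (nd_fx hF hpF hx) (m := m) (by omega)
  have h3 : Nat.card ((fixG q (Wx x)).subgroupOf (Subgroup.centralizer ({x} : Set (SU n F q)))) ≤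
      Nat.card (SU m F q) := by
    rw [Nat.card_congr e.toEquiv]
    have : Finite (SU n F q) := inferInstance
    exact Nat.card_le_card_of_injective
      (fun g : (fixG q (Wx x)).subgroupOf (Subgroup.centralizer ({x} : Set (SU n F q))) =>
        (⟨g.1.1, Subgroup.mem_subgroupOf.1 g.2⟩ : fixG q (Wx x)))
      (fun g h hgh => by
        have h4 : g.1.1 = h.1.1 := congrArg (fun z : fixG q (Wx x) => (z : SU n F q)) hgh
        exact Subtype.ext (Subtype.ext h4))
  rw [← Subgroup.card_mul_index ((fixG q (Wx x)).subgroupOf (Subgroup.centralizer ({x} : Set (SU n F q)))), mul_comm]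
  exact Nat.mul_le_mul h2 h3

theorem card_SU_le_one {m : ℕ} (hm : m ≤ 1) : Nat.card (SU m F q) ≤ 1 := by
  have := su_subsingleton (F := F) (q := q) hm
  exact Finite.card_le_one_iff_subsingleton.2 this

/-- `n = j` and `n = j + 1`. -/
theorem card_centralizer_prime_le' (hF : Fintype.card F = q ^ 2) (hp : p.Prime) (hpF : (p : F) ≠ 0) (hx : x ^ p = 1)
    (hx1 : x ≠ 1) (hj : orderOf ((Nat.card F : ℕ) : ZMod p) = j) (hodd : Odd j) (hn : n < 2 * j) (h1 : j ≤ n)
    (h2 : n ≤ j + 1) :
    Nat.card (Subgroup.centralizer ({x} : Set (SU n F q))) ≤ q ^ j + 1 := by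
  obtain ⟨m, hm⟩ := Nat.exists_eq_add_of_le' h1
  have h3 := card_centralizer_prime_le hF hp hpF hx hx1 hj hodd hn hm.symm
  have h4 : Nat.card (SU m F q) ≤ 1 := card_SU_le_one (by omega)
  calc _ ≤ (q ^ j + 1) * Nat.card (SU m F q) := h3
    _ ≤ (q ^ j + 1) * 1 := Nat.mul_le_mul_left _ h4
    _ = _ := mul_one _

end Prime

end Cfsg.Agent.H779.DP
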