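import Mathlib
import Cfsg.Agent.KFacts.Unit.GLAct
import Cfsg.Agent.H779.DP.UFix

/-!
# The Levi homomorphism `SL_d(F) → SU_n(q)` of a totally isotropic frame (S2454, row PSU)

* `lev hF E : SL_d(F) →* SU n F q` for `E : Frm q e f`; coordinates `co q f v` (along `e`), `co q e v` (along `f`);
* `Gen hF M` : `M` has no fixed vector and shares no irreducible factor with its conjugate inverse transpose, cyclic;
* `card_centralizer_lev_le` : `n ≤ 2 d + 1`, `Gen hF M` : `|C(lev M)| ≤ Q ^ d - 1`.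
-/

set_option autoImplicit false
set_option linter.unusedSectionVars false

namespace Cfsg.Agent.H779.DP

open Cfsg Module Matrix Cfsg.Agent.LieClassical.HermBasic Cfsg.Agent.LieClassical.HermSiegel
open Cfsg.Agent.ClassicalGeometry.HermOrtho Cfsg.Agent.GpUn
open Cfsg.Agent.KFacts.Unit (Frm glMat glMat_mulVec glMat_det glMat_herm)

variable {F : Type*} [Field F] [Fintype F] {q n d : ℕ} {e f : Fin d → (Fin n → F)}

/-- the conjugate inverse transpose -/
noncomputable def dual (hF : Fintype.card F = q ^ 2) (M : SpecialLinearGroup (Fin d) F) : Matrix (Fin d) (Fin d) F :=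
  ((M⁻¹ : SpecialLinearGroup (Fin d) F).1ᵀ).map (LieClassical.HermBasic.conj hF)

theorem dual_one (hF : Fintype.card F = q ^ 2) : dual hF (1 : SpecialLinearGroup (Fin d) F) = 1 := by
  rw [dual, inv_one]
  show ((1 : Matrix (Fin d) (Fin d) F)ᵀ).map _ = 1
  rw [transpose_one, Matrix.map_one _ (map_zero _) (map_one _)]

theorem dual_mul (hF : Fintype.card F = q ^ 2) (M N : SpecialLinearGroup (Fin d) F) :
    dual hF (M * N) = dual hF M * dual hF N := by
  rw [dual, dual, dual, _root_.mul_inv_rev]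
  show (((N⁻¹).1 * (M⁻¹).1)ᵀ).map _ = _
  rw [transpose_mul, Matrix.map_mul]

theorem conj_conj_map (hF : Fintype.card F = q ^ 2) (A : Matrix (Fin d) (Fin d) F) :
    (A.map (LieClassical.HermBasic.conj hF)).map (LieClassical.HermBasic.conj hF) = A := by
  ext i j
  rw [map_apply, map_apply, conj_apply, conj_apply, pow_q_pow_q hF]

theorem dual_spec (hF : Fintype.card F = q ^ 2) (M : SpecialLinearGroup (Fin d) F) :
    M.1ᵀ * (dual hF M).map (LieClassical.HermBasic.conj hF) = 1 := by
  rw [dual, conj_conj_map, ← transpose_mul]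
  have h : (M⁻¹).1 * M.1 = 1 := congrArg Subtype.val (inv_mul_cancel M)
  rw [h, transpose_one]

theorem det_dual (hF : Fintype.card F = q ^ 2) (M : SpecialLinearGroup (Fin d) F) : (dual hF M).det = 1 := by
  have e3 : dual hF M = (LieClassical.HermBasic.conj hF : F →+* F).mapMatrix (M⁻¹).1ᵀ := rfl
  rw [e3, ← RingHom.map_det, det_transpose, (M⁻¹).2, map_one]

/-- coordinates -/
def co (q : ℕ) (f : Fin d → (Fin n → F)) (v : Fin n → F) : Fin d → F := fun j => hermForm n F q v (f j)

theorem co_add (f : Fin d → (Fin n → F)) (v w : Fin n → F) : co q f (v + w) = co q f v + co q f w := by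
  funext j; exact herm_add_left _ _ _

theorem co_smul (f : Fin d → (Fin n → F)) (c : F) (v : Fin n → F) : co q f (c • v) = c • co q f v := by
  funext j; exact herm_smul_left _ _ _

theorem co_sum {ι : Type*} (s : Finset ι) (f : Fin d → (Fin n → F)) (v : ι → (Fin n → F)) :
    co q f (∑ i ∈ s, v i) = ∑ i ∈ s, co q f (v i) := by
  funext j
  rw [Finset.sum_apply]
  exact herm_sum_left _ _ _

/-- combinations -/
def cmb (e : Fin d → (Fin n → F)) (c : Fin d → F) : Fin n → F := ∑ i, c i • e i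

theorem cmb_add (e : Fin d → (Fin n → F)) (c c' : Fin d → F) : cmb e (c + c') = cmb e c + cmb e c' := by
  simp [cmb, add_smul, Finset.sum_add_distrib]

theorem cmb_zero (e : Fin d → (Fin n → F)) : cmb e 0 = 0 := by simp [cmb]

theorem cmb_single (e : Fin d → (Fin n → F)) (i : Fin d) : cmb e (Pi.single i 1) = e i := by
  rw [cmb, Finset.sum_eq_single i]
  · rw [Pi.single_eq_same, one_smul]
  · intro j _ hj
    rw [Pi.single_eq_of_ne hj, zero_smul]
  · intro h; exact absurd (Finset.mem_univ i) h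

theorem co_f_cmb_e (E : Frm q e f) (c : Fin d → F) : co q f (cmb e c) = c := by
  funext j; exact E.herm_sum c j

theorem co_e_cmb_e (E : Frm q e f) (c : Fin d → F) : co q e (cmb e c) = 0 := by
  funext j; exact E.herm_sum_e c j

theorem co_e_cmb_f (hF : Fintype.card F = q ^ 2) (E : Frm q e f) (c : Fin d → F) : co q e (cmb f c) = c :=
  co_f_cmb_e (E.symm hF) c

theorem co_f_cmb_f (hF : Fintype.card F = q ^ 2) (E : Frm q e f) (c : Fin d → F) : co q f (cmb f c) = 0 :=
  co_e_cmb_e (E.symm hF) c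

/-- the matrix -/
theorem glMat_act (E : Frm q e f) (M N : Matrix (Fin d) (Fin d) F) (v : Fin n → F) :
    glMat q e f M N *ᵥ v = v + cmb e ((M - 1) *ᵥ co q f v) + cmb f ((N - 1) *ᵥ co q e v) :=
  glMat_mulVec E M N v

/-- **The Levi homomorphism.** -/
noncomputable def lev (hF : Fintype.card F = q ^ 2) (E : Frm q e f) : SpecialLinearGroup (Fin d) F →* SU n F q where
  toFun M := mkSU (glMat q e f M.1 (dual hF M)) (by rw [glMat_det hF E, M.2, det_dual, one_mul])
    (glMat_herm hF E (dual_spec hF M))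
  map_one' := by
    apply ext_act
    intro v
    show glMat q e f 1 (dual hF 1) *ᵥ v = act 1 v
    rw [glMat_act E, dual_one, sub_self, zero_mulVec, zero_mulVec, cmb_zero, cmb_zero, act_one, add_zero, add_zero]
  map_mul' M M' := by
    apply ext_act
    intro v
    rw [act_mul]
    show glMat q e f (M.1 * M'.1) (dual hF (M * M')) *ᵥ v =
      glMat q e f M.1 (dual hF M) *ᵥ (glMat q e f M'.1 (dual hF M') *ᵥ v)
    rw [glMat_act E M'.1, glMat_act E M.1, glMat_act E, dual_mul]
    simp only [co_add, co_f_cmb_e E, co_e_cmb_e E, co_e_cmb_f hF E, co_f_cmb_f hF E, add_zero, sub_mulVec, one_mulVec,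
      add_sub_cancel]
    have h1 : ∀ (A B : Matrix (Fin d) (Fin d) F) (c : Fin d → F), (A * B) *ᵥ c - c = (B *ᵥ c - c) + (A *ᵥ (B *ᵥ c) - B *ᵥ c) := by
      intro A B c
      rw [mulVec_mulVec]
      abel
    rw [h1, h1, cmb_add, cmb_add]
    abel

variable (hF : Fintype.card F = q ^ 2) (E : Frm q e f)

theorem act_lev (M : SpecialLinearGroup (Fin d) F) (v : Fin n → F) :
    act (lev hF E M) v = v + cmb e ((M.1 - 1) *ᵥ co q f v) + cmb f ((dual hF M - 1) *ᵥ co q e v) :=
  glMat_act E _ _ v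

theorem co_f_lev (M : SpecialLinearGroup (Fin d) F) (v : Fin n → F) :
    co q f (act (lev hF E M) v) = M.1 *ᵥ co q f v := by
  rw [act_lev, co_add, co_add, co_f_cmb_e E, co_f_cmb_f hF E, add_zero, sub_mulVec, one_mulVec, add_sub_cancel]

theorem co_e_lev (M : SpecialLinearGroup (Fin d) F) (v : Fin n → F) :
    co q e (act (lev hF E M) v) = dual hF M *ᵥ co q e v := by
  rw [act_lev, co_add, co_add, co_e_cmb_e E, co_e_cmb_f hF E, add_zero, sub_mulVec, one_mulVec, add_sub_cancel]

theorem act_lev_cmb_e (M : SpecialLinearGroup (Fin d) F) (c : Fin d → F) :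
    act (lev hF E M) (cmb e c) = cmb e (M.1 *ᵥ c) := by
  rw [act_lev, co_f_cmb_e E, co_e_cmb_e E, mulVec_zero, cmb_zero, add_zero, ← cmb_add, sub_mulVec, one_mulVec,
    add_sub_cancel]

theorem act_lev_cmb_f (M : SpecialLinearGroup (Fin d) F) (c : Fin d → F) :
    act (lev hF E M) (cmb f c) = cmb f (dual hF M *ᵥ c) := by
  rw [act_lev, co_f_cmb_f hF E, co_e_cmb_f hF E, mulVec_zero, cmb_zero, add_zero, ← cmb_add, sub_mulVec, one_mulVec,
    add_sub_cancel]

/-- the orthogonal space of the frame -/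
abbrev Rp (q : ℕ) (e f : Fin d → (Fin n → F)) : Submodule F (Fin n → F) := hermPerp q (Set.range e ∪ Set.range f)

theorem mem_Rp {r : Fin n → F} : r ∈ Rp q e f ↔ co q e r = 0 ∧ co q f r = 0 := by
  constructor
  · intro h
    exact ⟨funext fun i => h _ (Or.inl ⟨i, rfl⟩), funext fun i => h _ (Or.inr ⟨i, rfl⟩)⟩
  · rintro ⟨h1, h2⟩ v (⟨i, rfl⟩ | ⟨i, rfl⟩)
    · exact congrFun h1 i
    · exact congrFun h2 i

theorem act_lev_Rp (M : SpecialLinearGroup (Fin d) F) {r : Fin n → F} (hr : r ∈ Rp q e f) :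
    act (lev hF E M) r = r := by
  rw [act_lev, (mem_Rp.1 hr).1, (mem_Rp.1 hr).2, mulVec_zero, mulVec_zero, cmb_zero, cmb_zero, add_zero, add_zero]

include hF E in
theorem exists_dec (v : Fin n → F) : ∃ r ∈ Rp q e f, v = cmb e (co q f v) + cmb f (co q e v) + r := by
  have hneg : ∀ v w : Fin n → F, v = w + (v - w) := fun v w => by abel
  refine ⟨v - (cmb e (co q f v) + cmb f (co q e v)), ?_, hneg _ _⟩
  rw [mem_Rp]
  have key : ∀ g : Fin d → (Fin n → F), co q g (v - (cmb e (co q f v) + cmb f (co q e v))) =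
      co q g v - (co q g (cmb e (co q f v)) + co q g (cmb f (co q e v))) := by
    intro g
    have h1 := co_add (q := q) g (v - (cmb e (co q f v) + cmb f (co q e v))) (cmb e (co q f v) + cmb f (co q e v))
    rw [sub_add_cancel, co_add g (cmb e (co q f v))] at h1
    rw [h1, add_sub_cancel_right]
  rw [key, key, co_e_cmb_e E, co_e_cmb_f hF E, co_f_cmb_e E, co_f_cmb_f hF E, zero_add, add_zero, sub_self, sub_self]
  exact ⟨rfl, rfl⟩

theorem herm_cmb_Rp (hF : Fintype.card F = q ^ 2) {r : Fin n → F} (hr : r ∈ Rp q e f) (c c' : Fin d → F) :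
    hermForm n F q r (cmb e c + cmb f c') = 0 := by
  have h1 : ∀ (g : Fin d → (Fin n → F)) (c : Fin d → F), co q g r = 0 → hermForm n F q r (cmb g c) = 0 := by
    intro g c hg
    rw [cmb, herm_sum_right hF]
    refine Finset.sum_eq_zero fun i _ => ?_
    rw [herm_smul_right]
    have := congrFun hg i
    rw [show hermForm n F q r (g i) = 0 from this, mul_zero]
  rw [herm_add_right hF, h1 e c (mem_Rp.1 hr).1, h1 f c' (mem_Rp.1 hr).2, add_zero]

include hF E in
theorem nd_Rp : ND q (Rp q e f) := by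
  intro r hr h
  apply herm_nondeg hF
  intro v
  obtain ⟨r', hr', hv⟩ := exists_dec hF E v
  rw [hv, herm_add_right hF, h r' hr', herm_cmb_Rp hF hr, add_zero]

include hF E in
theorem finrank_Rp : 2 * d + finrank F (Rp q e f) = n := by
  let L : (Fin n → F) →ₗ[F] (Fin d → F) × (Fin d → F) :=
    { toFun := fun v => (co q f v, co q e v)
      map_add' := fun v w => by rw [co_add, co_add]; rfl
      map_smul' := fun c v => by rw [co_smul, co_smul]; rfl }
  have hsurj : Function.Surjective L := by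
    rintro ⟨c, c'⟩
    refine ⟨cmb e c + cmb f c', ?_⟩
    show (co q f (cmb e c + cmb f c'), co q e (cmb e c + cmb f c')) = (c, c')
    rw [co_add, co_add, co_f_cmb_e E, co_f_cmb_f hF E, co_e_cmb_e E, co_e_cmb_f hF E, add_zero, zero_add]
  have hker : LinearMap.ker L = Rp q e f := by
    ext r
    rw [LinearMap.mem_ker, mem_Rp]
    show (co q f r, co q e r) = 0 ↔ _
    rw [Prod.mk_eq_zero, and_comm]
  have h1 := LinearMap.finrank_range_add_finrank_ker L
  rw [hker, LinearMap.range_eq_top.2 hsurj, finrank_top, finrank_prod, finrank_fin_fun, finrank_fin_fun] at h1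
  omega

/-! ### The centralizer -/

theorem cmb_mulVec (g : SU n F q) (M : Matrix (Fin d) (Fin d) F) (a : Fin d → (Fin n → F)) (c : Fin d → F) :
    act g (cmb a (M *ᵥ c)) = ∑ l, (M *ᵥ c) l • act g (a l) := by
  rw [cmb, act_sum]
  exact Finset.sum_congr rfl fun l _ => act_smul _ _ _

/-- the matrix of an element between two families -/
def mt (q : ℕ) (a b : Fin d → (Fin n → F)) (g : SU n F q) : Matrix (Fin d) (Fin d) F :=
  of fun i k => hermForm n F q (act g (a k)) (b i)

theorem mt_mulVec (a b : Fin d → (Fin n → F)) (g : SU n F q) (c : Fin d → F) :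
    mt q a b g *ᵥ c = co q b (act g (cmb a c)) := by
  funext i
  rw [cmb, act_sum, co_sum, Finset.sum_apply, mulVec, dotProduct]
  refine Finset.sum_congr rfl fun k _ => ?_
  rw [act_smul, co_smul, Pi.smul_apply, smul_eq_mul, mul_comm]
  rfl

variable {M : SpecialLinearGroup (Fin d) F} {g : SU n F q}

theorem comm_act {y g : SU n F q} (hg : g * y = y * g) (v : Fin n → F) : act g (act y v) = act y (act g v) := by
  rw [← act_mul, hg, act_mul]

/-- the four relations -/
theorem rel_ee (hg : g * lev hF E M = lev hF E M * g) : mt q e f g * M.1 = M.1 * mt q e f g := by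
  refine Matrix.ext_of_mulVec_single fun k => ?_
  rw [← mulVec_mulVec, ← mulVec_mulVec, mt_mulVec, mt_mulVec, ← act_lev_cmb_e hF E, comm_act hg, co_f_lev]

theorem rel_ef (hg : g * lev hF E M = lev hF E M * g) : mt q e e g * M.1 = dual hF M * mt q e e g := by
  refine Matrix.ext_of_mulVec_single fun k => ?_
  rw [← mulVec_mulVec, ← mulVec_mulVec, mt_mulVec, mt_mulVec, ← act_lev_cmb_e hF E, comm_act hg, co_e_lev]

theorem rel_fe (hg : g * lev hF E M = lev hF E M * g) : mt q f f g * dual hF M = M.1 * mt q f f g := by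
  refine Matrix.ext_of_mulVec_single fun k => ?_
  rw [← mulVec_mulVec, ← mulVec_mulVec, mt_mulVec, mt_mulVec, ← act_lev_cmb_f hF E, comm_act hg, co_f_lev]

theorem rel_ff (hg : g * lev hF E M = lev hF E M * g) : mt q f e g * dual hF M = dual hF M * mt q f e g := by
  refine Matrix.ext_of_mulVec_single fun k => ?_
  rw [← mulVec_mulVec, ← mulVec_mulVec, mt_mulVec, mt_mulVec, ← act_lev_cmb_f hF E, comm_act hg, co_e_lev]

theorem herm_lev_Rp (M : SpecialLinearGroup (Fin d) F) {r : Fin n → F} (hr : r ∈ Rp q e f) (v : Fin n → F) :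
    hermForm n F q (act (lev hF E M) v) r = hermForm n F q v r := by
  conv_lhs => rw [← act_lev_Rp hF E M hr]
  exact herm_act _ _ _

/-- the functional -/
def fl (q : ℕ) (a : Fin d → (Fin n → F)) (g : SU n F q) (r : Fin n → F) : Fin d → F :=
  fun k => hermForm n F q (act g (a k)) r

theorem fl_dot (a : Fin d → (Fin n → F)) (g : SU n F q) (r : Fin n → F) (c : Fin d → F) :
    fl q a g r ⬝ᵥ c = hermForm n F q (act g (cmb a c)) r := by
  rw [cmb, act_sum, herm_sum_left, dotProduct]
  refine Finset.sum_congr rfl fun k _ => ?_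
  rw [act_smul, herm_smul_left, mul_comm]
  rfl

theorem rel_e (hg : g * lev hF E M = lev hF E M * g) {r : Fin n → F} (hr : r ∈ Rp q e f) :
    fl q e g r ᵥ* M.1 = fl q e g r := by
  funext k
  have h1 := fl_dot e g r (M.1 *ᵥ Pi.single k 1)
  rw [← act_lev_cmb_e hF E, comm_act hg, herm_lev_Rp hF E M hr, ← fl_dot e g r, dotProduct_mulVec] at h1
  simpa using h1

theorem rel_f (hg : g * lev hF E M = lev hF E M * g) {r : Fin n → F} (hr : r ∈ Rp q e f) :
    fl q f g r ᵥ* dual hF M = fl q f g r := by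
  funext k
  have h1 := fl_dot f g r (dual hF M *ᵥ Pi.single k 1)
  rw [← act_lev_cmb_f hF E, comm_act hg, herm_lev_Rp hF E M hr, ← fl_dot f g r, dotProduct_mulVec] at h1
  simpa using h1

/-- the matrices considered -/
structure Gen (hF : Fintype.card F = q ^ 2) (M : SpecialLinearGroup (Fin d) F) : Prop where
  ef : ∀ T : Matrix (Fin d) (Fin d) F, T * M.1 = dual hF M * T → T = 0
  fe : ∀ T : Matrix (Fin d) (Fin d) F, T * dual hF M = M.1 * T → T = 0
  e1 : ∀ c : Fin d → F, c ᵥ* M.1 = c → c = 0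
  f1 : ∀ c : Fin d → F, c ᵥ* dual hF M = c → c = 0
  cyc : ∀ (A : Matrix (Fin d) (Fin d) F) (c : Fin d → F), A * M.1 = M.1 * A → c ≠ 0 → A *ᵥ c = c → A = 1

theorem act_e_of (hM : Gen hF M) (hg : g * lev hF E M = lev hF E M * g) (c : Fin d → F) :
    act g (cmb e c) = cmb e (mt q e f g *ᵥ c) := by
  obtain ⟨r, hr, hv⟩ := exists_dec hF E (act g (cmb e c))
  have h1 : co q e (act g (cmb e c)) = 0 := by
    rw [← mt_mulVec, hM.ef _ (rel_ef hF E hg), zero_mulVec]
  have h2 : r = 0 := by
    apply nd_Rp hF E r hr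
    intro r' hr'
    have h3 : hermForm n F q (act g (cmb e c)) r' = 0 := by
      rw [← fl_dot, hM.e1 _ (rel_e hF E hg hr'), zero_dotProduct]
    rw [hv, herm_add_left, herm_eq_zero_swap hF (herm_cmb_Rp hF hr' _ _), zero_add] at h3
    exact h3
  rw [mt_mulVec]
  conv_lhs => rw [hv, h1, cmb_zero, add_zero, h2, add_zero]

theorem act_f_of (hM : Gen hF M) (hg : g * lev hF E M = lev hF E M * g) (c : Fin d → F) :
    act g (cmb f c) = cmb f (mt q f e g *ᵥ c) := by
  obtain ⟨r, hr, hv⟩ := exists_dec hF E (act g (cmb f c))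
  have h1 : co q f (act g (cmb f c)) = 0 := by
    rw [← mt_mulVec, hM.fe _ (rel_fe hF E hg), zero_mulVec]
  have h2 : r = 0 := by
    apply nd_Rp hF E r hr
    intro r' hr'
    have h3 : hermForm n F q (act g (cmb f c)) r' = 0 := by
      rw [← fl_dot, hM.f1 _ (rel_f hF E hg hr'), zero_dotProduct]
    rw [hv, herm_add_left, herm_eq_zero_swap hF (herm_cmb_Rp hF hr' _ _), zero_add] at h3
    exact h3
  rw [mt_mulVec]
  conv_lhs => rw [hv, h1, cmb_zero, zero_add, h2, add_zero]

theorem cmb_injective (E : Frm q e f) : Function.Injective (cmb e) := by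
  intro c c' h
  rw [← co_f_cmb_e E c, h, co_f_cmb_e E]

/-- an element of the centralizer fixing a nonzero vector of `⟨e⟩` is trivial -/
theorem eq_one_of_lev (hM : Gen hF M) (hn : n ≤ 2 * d + 1) (hg : g * lev hF E M = lev hF E M * g) {c : Fin d → F}
    (hc : c ≠ 0) (hgc : act g (cmb e c) = cmb e c) : g = 1 := by
  have hA : mt q e f g = 1 := by
    apply hM.cyc _ c (rel_ee hF E hg) hc
    apply cmb_injective E
    rw [← act_e_of hF E hM hg, hgc]
  have he : ∀ c, act g (cmb e c) = cmb e c := fun c => by rw [act_e_of hF E hM hg, hA, one_mulVec]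
  have hB : mt q f e g = 1 := by
    ext i k
    show hermForm n F q (act g (f k)) (e i) = _
    have h1 := he (Pi.single i 1)
    rw [cmb_single] at h1
    rw [← h1, herm_act, E.fe hF, one_apply]
    simp only [eq_comm]
  have hf : ∀ c, act g (cmb f c) = cmb f c := fun c => by rw [act_f_of hF E hM hg, hB, one_mulVec]
  refine eq_one_of_fix hF (nd_Rp hF E) (by have := finrank_Rp hF E; omega) fun w hw => ?_
  obtain ⟨r, hr, hv⟩ := exists_dec hF E w
  have h2 : r = 0 := by
    apply nd_Rp hF E r hr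
    intro r' hr'
    have h3 := hw r' hr'
    rw [hv, herm_add_left, herm_eq_zero_swap hF (herm_cmb_Rp hF hr' _ _), zero_add] at h3
    exact h3
  rw [hv, h2, add_zero, act_add, he, hf]

/-- **The centralizer.** -/
theorem card_centralizer_lev_le (hM : Gen hF M) (hd : 0 < d) (hn : n ≤ 2 * d + 1) :
    Nat.card (Subgroup.centralizer ({lev hF E M} : Set (SU n F q))) ≤ Nat.card F ^ d - 1 := by
  classical
  have hc0 : (Pi.single (⟨0, hd⟩ : Fin d) (1 : F) : Fin d → F) ≠ 0 := by
    intro h
    have := congrFun h ⟨0, hd⟩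
    simp at this
  set c0 : Fin d → F := Pi.single ⟨0, hd⟩ 1 with hc0'
  have hcomm : ∀ g : Subgroup.centralizer ({lev hF E M} : Set (SU n F q)),
      (g : SU n F q) * lev hF E M = lev hF E M * g := fun g => Subgroup.mem_centralizer_singleton_iff.1 g.2
  have h1 : Nat.card {c : Fin d → F // c ≠ 0} = Nat.card F ^ d - 1 := by
    have h2 := Set.ncard_add_ncard_compl ({0} : Set (Fin d → F))
    rw [Set.ncard_singleton, Nat.card_fun, Nat.card_eq_fintype_card (α := Fin d), Fintype.card_fin] at h2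
    have h3 : ({0}ᶜ : Set (Fin d → F)).ncard = Nat.card {c : Fin d → F // c ≠ 0} := by
      rw [← Nat.card_coe_set_eq]
      rfl
    omega
  rw [← h1]
  refine Nat.card_le_card_of_injective (fun g => ⟨mt q e f g.1 *ᵥ c0, fun h => ?_⟩) ?_
  · have h2 := act_e_of hF E hM (hcomm g) c0
    rw [h, cmb_zero, act_eq_zero] at h2
    exact hc0 (cmb_injective E (h2.trans (cmb_zero e).symm))
  · intro g h hgh
    have h2 : mt q e f g.1 *ᵥ c0 = mt q e f h.1 *ᵥ c0 := congrArg Subtype.val hgh
    have h3 : act g.1 (cmb e c0) = act h.1 (cmb e c0) := by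
      rw [act_e_of hF E hM (hcomm g), h2, act_e_of hF E hM (hcomm h)]
    have h4 : act (g.1⁻¹ * h.1) (cmb e c0) = cmb e c0 := by
      rw [act_mul, ← h3, act_inv_act]
    have h5 := eq_one_of_lev hF E hM hn (hcomm (g⁻¹ * h)) hc0 h4
    have h6 : g⁻¹ * h = 1 := Subtype.ext h5
    exact inv_mul_eq_one.1 h6

end Cfsg.Agent.H779.DP
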