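import Mathlib
import Cfsg.Agent.H779.DP.ULev
import Cfsg.Agent.H514.DP.Cyc

/-!
# Singer elements satisfy `Gen` (S2454, row PSU)

* `gen_sing` : `sing b z h` satisfies `Gen hF` if `z` has order greater than `|F| ^ (d - 1)`, `d ≥ 2`.
-/

set_option autoImplicit false
set_option linter.unusedSectionVars false

namespace Cfsg.Agent.H779.DP

open Cfsg Module Matrix Polynomial Cfsg.Agent.LieClassical.HermBasic Cfsg.Agent.H514.DP

variable {F : Type*} [Field F] [Fintype F] {q d : ℕ}

theorem aeval_dual (hF : Fintype.card F = q ^ 2) (A : Matrix (Fin d) (Fin d) F) (p : F[X]) :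
    aeval ((Aᵀ).map (LieClassical.HermBasic.conj hF)) p =
      ((aeval A (p.map (LieClassical.HermBasic.conj hF : F →+* F)))ᵀ).map (LieClassical.HermBasic.conj hF) := by
  induction p using Polynomial.induction_on' with
  | add p r hp hr =>
    rw [map_add, Polynomial.map_add, map_add, transpose_add, Matrix.map_add _ (map_add _), hp, hr]
  | monomial k c =>
    rw [Polynomial.map_monomial, aeval_monomial, aeval_monomial, ← Algebra.smul_def, ← Algebra.smul_def,
      transpose_smul, transpose_pow]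
    have h1 : ∀ B : Matrix (Fin d) (Fin d) F, (B ^ k).map (LieClassical.HermBasic.conj hF) =
        (B.map (LieClassical.HermBasic.conj hF)) ^ k := by
      intro B
      exact map_pow ((LieClassical.HermBasic.conj hF : F →+* F).mapMatrix) B k
    ext i j
    rw [Matrix.smul_apply, map_apply, Matrix.smul_apply, smul_eq_mul, smul_eq_mul, map_mul, ← map_apply (f := (LieClassical.HermBasic.conj hF : F → F)), h1]
    congr 1
    exact (pow_q_pow_q hF c).symm

section

variable {K : Type*} [Field K] [Algebra F K] {z : K}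

theorem det_left_ne_zero (b : Module.Basis (Fin d) F K) {w : K} (hw : w ≠ 0) : (Algebra.leftMulMatrix b w).det ≠ 0 := by
  have : Module.Finite F K := Module.Finite.of_basis b
  rw [← Algebra.norm_eq_matrix_det, Algebra.norm_ne_zero_iff]
  exact hw

theorem inv_sing (b : Module.Basis (Fin d) F K) (h : Algebra.norm F z = 1) (hz0 : z ≠ 0) :
    ((sing b z h)⁻¹).1 = Algebra.leftMulMatrix b z⁻¹ := by
  have h1 : ((sing b z h)⁻¹).1 * Algebra.leftMulMatrix b z = 1 := congrArg Subtype.val (inv_mul_cancel (sing b z h))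
  have h2 : Algebra.leftMulMatrix b z * Algebra.leftMulMatrix b z⁻¹ = 1 := by
    rw [← map_mul, mul_inv_cancel₀ hz0, map_one]
  calc ((sing b z h)⁻¹).1 = ((sing b z h)⁻¹).1 * (Algebra.leftMulMatrix b z * Algebra.leftMulMatrix b z⁻¹) := by
        rw [h2, mul_one]
    _ = _ := by rw [← mul_assoc, h1, one_mul]

theorem det_conj (hF : Fintype.card F = q ^ 2) (A : Matrix (Fin d) (Fin d) F) (hA : A.det ≠ 0) :
    ((Aᵀ).map (LieClassical.HermBasic.conj hF)).det ≠ 0 := by
  have e3 : (Aᵀ).map (LieClassical.HermBasic.conj hF) = (LieClassical.HermBasic.conj hF : F →+* F).mapMatrix Aᵀ := rfl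
  rw [e3, ← RingHom.map_det, det_transpose]
  exact (_root_.map_ne_zero _).2 hA

theorem gen_of_ne (hF : Fintype.card F = q ^ 2) (b : Module.Basis (Fin d) F K) (h : Algebra.norm F z = 1)
    (hz : Algebra.adjoin F {z} = ⊤) (hz0 : z ≠ 0) (hz1 : z ≠ 1)
    (hne : aeval z⁻¹ ((minpoly F z).map (LieClassical.HermBasic.conj hF : F →+* F)) ≠ 0) : Gen hF (sing b z h) := by
  have hM : (sing b z h).1 = Algebra.leftMulMatrix b z := rfl
  have hN : dual hF (sing b z h) = ((Algebra.leftMulMatrix b z⁻¹)ᵀ).map (LieClassical.HermBasic.conj hF) := by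
    rw [dual, inv_sing b h hz0]
  have h0 : aeval (sing b z h).1 (minpoly F z) = 0 := by
    rw [hM, Polynomial.aeval_algHom_apply, minpoly.aeval, map_zero]
  have hu : (aeval (dual hF (sing b z h)) (minpoly F z)).det ≠ 0 := by
    rw [hN, aeval_dual]
    apply det_conj
    rw [Polynomial.aeval_algHom_apply]
    exact det_left_ne_zero b hne
  have hu' : IsUnit (aeval (dual hF (sing b z h)) (minpoly F z)) :=
    (Matrix.isUnit_iff_isUnit_det _).2 (isUnit_iff_ne_zero.2 hu)
  have hpoly : ∀ (A B T : Matrix (Fin d) (Fin d) F), T * A = B * T → ∀ p : F[X], T * aeval A p = aeval B p * T := by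
    intro A B T hT p
    have hk : ∀ k : ℕ, T * A ^ k = B ^ k * T := by
      intro k
      induction k with
      | zero => rw [pow_zero, pow_zero, mul_one, one_mul]
      | succ k ih => rw [pow_succ, pow_succ, ← mul_assoc, ih, mul_assoc, hT, mul_assoc]
    induction p using Polynomial.induction_on' with
    | add p r hp hr => rw [map_add, map_add, mul_add, add_mul, hp, hr]
    | monomial k c =>
      rw [aeval_monomial, aeval_monomial, ← Algebra.smul_def, ← Algebra.smul_def, mul_smul_comm, smul_mul_assoc, hk]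
  constructor
  · intro T hT
    have h1 := hpoly _ _ _ hT (minpoly F z)
    rw [h0, mul_zero] at h1
    exact (hu'.mul_right_eq_zero).1 h1.symm
  · intro T hT
    have h1 := hpoly _ _ _ hT (minpoly F z)
    rw [h0, zero_mul] at h1
    exact (hu'.mul_left_eq_zero).1 h1
  · intro c hc
    have h1 : c ᵥ* (Algebra.leftMulMatrix b (z - 1)) = 0 := by
      rw [map_sub, map_one, vecMul_sub, vecMul_one, ← hM, hc, sub_self]
    exact Matrix.eq_zero_of_vecMul_eq_zero (det_left_ne_zero b (sub_ne_zero.2 hz1)) h1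
  · intro c hc
    have h2 : dual hF (sing b z h) - 1 = ((Algebra.leftMulMatrix b (z⁻¹ - 1))ᵀ).map (LieClassical.HermBasic.conj hF) := by
      rw [hN, map_sub, map_one, transpose_sub, transpose_one, Matrix.map_sub _ (map_sub _),
        Matrix.map_one _ (map_zero _) (map_one _)]
    have h1 : c ᵥ* (dual hF (sing b z h) - 1) = 0 := by
      rw [vecMul_sub, vecMul_one, hc, sub_self]
    rw [h2] at h1
    refine Matrix.eq_zero_of_vecMul_eq_zero (det_conj hF _ (det_left_ne_zero b ?_)) h1
    rw [sub_ne_zero]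
    intro h3
    exact hz1 (inv_eq_one.1 h3)
  · intro A c hA hc hAc
    obtain ⟨w, rfl⟩ := exists_of_commute b hz hA
    obtain ⟨u, hu⟩ : ∃ u : K, c = b.repr u := ⟨b.equivFun.symm c, by
      rw [← Module.Basis.equivFun_apply]
      exact (LinearEquiv.apply_symm_apply _ _).symm⟩
    have hu0 : u ≠ 0 := by
      rintro rfl
      apply hc
      rw [hu, map_zero]
      rfl
    rw [hu, Algebra.leftMulMatrix_mulVec_repr] at hAc
    have h1 : w * u = u := b.repr.injective (DFunLike.coe_injective hAc)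
    have h2 : w = 1 := mul_right_cancel₀ hu0 (by rw [h1, one_mul])
    rw [h2, map_one]

theorem aeval_ne_zero (hF : Fintype.card F = q ^ 2) (b : Module.Basis (Fin d) F K) (hd : 2 ≤ d) (hz0 : z ≠ 0)
    (ho : Nat.card F ^ (d - 1) < orderOf z) :
    aeval z⁻¹ ((minpoly F z).map (LieClassical.HermBasic.conj hF : F →+* F)) ≠ 0 := by
  have hfin := finite_ext b
  have := Fintype.ofFinite K
  have : Module.Finite F K := Module.Finite.of_basis b
  have hq := two_le hF
  have hcF : Nat.card F = q ^ 2 := by rw [Nat.card_eq_fintype_card, hF]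
  have hcK : Fintype.card K = q ^ (2 * d) := by
    rw [← Nat.card_eq_fintype_card, card_ext b, hcF, ← pow_mul]
  have hfd : Module.finrank F K = d := by rw [Module.finrank_eq_card_basis b, Fintype.card_fin]
  intro h0
  -- the power map
  obtain ⟨r, k, hr, hch, hqk, -⟩ := exists_prime_pow hF
  have hchK : CharP K r := charP_of_injective_algebraMap (algebraMap F K).injective r
  have : Fact r.Prime := ⟨hr⟩
  let φ : K →+* K := iterateFrobenius K r k
  have hφ : ∀ x, φ x = x ^ q := fun x => by rw [iterateFrobenius_def, hqk]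
  have h5 : (φ.comp (algebraMap F K)).comp (LieClassical.HermBasic.conj hF : F →+* F) = algebraMap F K := by
    refine RingHom.ext fun c => ?_
    show φ (algebraMap F K (LieClassical.HermBasic.conj hF c)) = algebraMap F K c
    rw [hφ, conj_apply, ← map_pow, pow_q_pow_q hF]
  have h1 : aeval ((z⁻¹) ^ q) (minpoly F z) = 0 := by
    have h2 := congrArg φ h0
    rw [map_zero, aeval_def, Polynomial.hom_eval₂, Polynomial.eval₂_map, hφ, h5] at h2
    exact h2
  have hint : IsIntegral F z := Algebra.IsIntegral.isIntegral z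
  have h2 : IsConjRoot F z ((z⁻¹) ^ q) := (isConjRoot_iff_aeval_eq_zero hint).2 h1
  obtain ⟨τ, hτ⟩ := (isConjRoot_iff_exists_algEquiv).1 h2.symm
  obtain ⟨i, hi⟩ := (FiniteField.bijective_frobeniusAlgHom_pow F K).2 (τ : K →ₐ[F] K)
  have hi2 : τ z = z ^ (q ^ 2) ^ (i : ℕ) := by
    have h3 := DFunLike.congr_fun hi z
    simp only at h3
    rw [AlgHom.coe_pow, FiniteField.coe_frobeniusAlgHom, pow_iterate, hF] at h3
    exact h3.symm
  have hid : (i : ℕ) < d := lt_of_lt_of_eq i.2 hfd
  have hz : z ^ ((q ^ 2) ^ (i : ℕ) + q) = 1 := by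
    rw [pow_add, ← hi2, hτ, ← mul_pow, inv_mul_cancel₀ hz0, one_pow]
  have hQ : q ^ 2 ≤ Nat.card F ^ (d - 1) := by
    rw [hcF]
    exact Nat.le_self_pow (by omega) _
  rcases Nat.eq_zero_or_pos (i : ℕ) with hi0 | hi0
  · rw [hi0, pow_zero] at hz
    have h6 := orderOf_le_of_pow_eq_one (by omega) hz
    have h7 : 1 + q ≤ q ^ 2 := by nlinarith
    omega
  · obtain ⟨m, hm⟩ : ∃ m, (i : ℕ) = m + 1 := ⟨i - 1, by omega⟩
    have h6 : (q ^ 2) ^ (i : ℕ) + q = (q ^ (2 * m + 1) + 1) * q := by
      rw [hm, ← pow_mul]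
      ring
    rw [h6, pow_mul] at hz
    have h7 : z ^ (q ^ (2 * m + 1) + 1) = 1 := by
      have h8 : (z ^ (q ^ (2 * m + 1) + 1)) ^ Fintype.card K = z ^ (q ^ (2 * m + 1) + 1) := FiniteField.pow_card _
      obtain ⟨l, hl⟩ : ∃ l, 2 * d = l + 1 := ⟨2 * d - 1, by omega⟩
      have h9 : q ^ (l + 1) = q * q ^ l := pow_succ' q l
      rw [hcK, hl, h9, pow_mul, hz, one_pow] at h8
      exact h8.symm
    have h8 := orderOf_le_of_pow_eq_one (by omega) h7
    have h9 : q ^ (2 * m + 1) + 1 ≤ Nat.card F ^ (d - 1) := by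
      rw [hcF, ← pow_mul]
      have h10 : q ^ (2 * m + 1) * 2 ≤ q ^ (2 * m + 1) * q := Nat.mul_le_mul_left _ hq
      have h11 : q ^ (2 * m + 1) * q = q ^ (2 * m + 2) := (pow_succ _ _).symm
      have h12 : q ^ (2 * m + 2) ≤ q ^ (2 * (d - 1)) := Nat.pow_le_pow_right (by omega) (by omega)
      have h13 : 1 ≤ q ^ (2 * m + 1) := Nat.one_le_pow _ _ (by omega)
      omega
    omega

/-- **Singer elements.** -/
theorem gen_sing (hF : Fintype.card F = q ^ 2) (b : Module.Basis (Fin d) F K) (hd : 2 ≤ d)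
    (h : Algebra.norm F z = 1) (hz : Algebra.adjoin F {z} = ⊤)
    (ho : Nat.card F ^ (d - 1) < orderOf z) : Gen hF (sing b z h) := by
  have : Module.Finite F K := Module.Finite.of_basis b
  have hz0 : z ≠ 0 := by
    rintro rfl
    rw [Algebra.norm_eq_zero_iff.2 rfl] at h
    exact zero_ne_one h
  have hz1 : z ≠ 1 := by
    rintro rfl
    rw [orderOf_one] at ho
    have := Nat.one_le_pow (d - 1) (Nat.card F) Nat.card_pos
    omega
  exact gen_of_ne hF b h hz hz0 hz1 (aeval_ne_zero hF b hd hz0 ho)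

end

end Cfsg.Agent.H779.DP
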