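import Mathlib

/-!
# Numerical inequalities (S2454, row PSU)
-/

set_option autoImplicit false

namespace Cfsg.Agent.H779.DP

theorem succ_dvd_even {q k : ℕ} (hq : 1 ≤ q) : q + 1 ∣ q ^ (2 * k) - 1 := by
  have h1 : q ^ 2 - 1 ∣ (q ^ 2) ^ k - 1 := by
    simpa using Nat.sub_dvd_pow_sub_pow (q ^ 2) 1 k
  have h2 : q ^ 2 - 1 = (q + 1) * (q - 1) := by
    have := Nat.sq_sub_sq q 1
    rwa [one_pow] at this
  rw [pow_mul]
  exact (Dvd.intro _ h2.symm).trans h1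

/-- `n` even -/
theorem deg_even {q n : ℕ} (hq : 2 ≤ q) (hn : Even n) : (q ^ n - 1) / (q + 1) * (q + 1) = q ^ n - 1 := by
  obtain ⟨k, rfl⟩ := hn
  rw [← two_mul]
  exact Nat.div_mul_cancel (succ_dvd_even (by omega))

/-- `n` odd -/
theorem deg_odd {q n : ℕ} (hq : 2 ≤ q) (hn : Odd n) : (q ^ n - q) / (q + 1) * (q + 1) = q ^ n - q := by
  obtain ⟨k, rfl⟩ := hn
  apply Nat.div_mul_cancel
  have h1 : q ^ (2 * k + 1) - q = (q ^ (2 * k) - 1) * q := by rw [Nat.sub_mul, one_mul, pow_succ]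
  rw [h1]
  exact (succ_dvd_even (by omega)).mul_right _

theorem le_two_mul_of {q m D X : ℕ} (h : D * (q + 1) = X) (h2 : q ^ m * (q + 1) ≤ 2 * X) : q ^ m ≤ 2 * D := by
  rw [← h, ← mul_assoc] at h2
  exact Nat.le_of_mul_le_mul_right h2 (by omega)

theorem le_deg_even {q m : ℕ} (hq : 2 ≤ q) (hm : 1 ≤ m) (hn : Even (m + 1)) :
    q ^ m ≤ 2 * ((q ^ (m + 1) - 1) / (q + 1)) := by
  refine le_two_mul_of (deg_even hq hn) ?_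
  have h1 : 2 ≤ q ^ m := hq.trans (Nat.le_self_pow (by omega) q)
  have h2 : q ^ m * 2 ≤ q ^ m * q := Nat.mul_le_mul_left _ hq
  have h3 : q ^ (m + 1) = q ^ m * q := pow_succ _ _
  have h4 : q ^ m * (q + 1) = q ^ m * q + q ^ m := by ring
  omega

theorem le_deg_odd {q m : ℕ} (hq : 2 ≤ q) (hm : 2 ≤ m) (hn : Odd (m + 1)) :
    q ^ m ≤ 2 * ((q ^ (m + 1) - q) / (q + 1)) := by
  refine le_two_mul_of (deg_odd hq hn) ?_
  have h1 : q * q ≤ q ^ m := by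
    rw [← pow_two]
    exact Nat.pow_le_pow_right (by omega) hm
  have h2 : q ^ m * 2 ≤ q ^ m * q := Nat.mul_le_mul_left _ hq
  have h3 : q ^ (m + 1) = q ^ m * q := pow_succ _ _
  have h4 : q ^ m * (q + 1) = q ^ m * q + q ^ m := by ring
  have h5 : 2 * q ≤ q * q := Nat.mul_le_mul_right _ hq
  omega

theorem lt_pow_36 {q m s D : ℕ} (h : q ^ m ≤ 2 * D) (h2 : 2 ^ 36 * q ^ s < q ^ (36 * m)) : q ^ s < D ^ 36 := by
  have h3 : q ^ (36 * m) ≤ 2 ^ 36 * D ^ 36 := by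
    rw [mul_comm 36 m, pow_mul, ← mul_pow]
    exact Nat.pow_le_pow_left h 36
  exact Nat.lt_of_mul_lt_mul_left (h2.trans_le h3)

theorem lt_pow_36_two {q m s D : ℕ} (hq : 2 ≤ q) (h : q ^ m ≤ 2 * D) (h2 : s + 36 < 36 * m) : q ^ s < D ^ 36 := by
  refine lt_pow_36 h ?_
  calc 2 ^ 36 * q ^ s ≤ q ^ 36 * q ^ s := Nat.mul_le_mul_right _ (Nat.pow_le_pow_left hq 36)
    _ = q ^ (s + 36) := by rw [← pow_add, add_comm]
    _ < q ^ (36 * m) := Nat.pow_lt_pow_right (by omega) h2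

theorem lt_pow_36_three {q m s D : ℕ} (hq : 3 ≤ q) (h : q ^ m ≤ 2 * D) (h2 : s + 23 < 36 * m) : q ^ s < D ^ 36 := by
  refine lt_pow_36 h ?_
  calc 2 ^ 36 * q ^ s ≤ 3 ^ 23 * q ^ s := Nat.mul_le_mul_right _ (by norm_num)
    _ ≤ q ^ 23 * q ^ s := Nat.mul_le_mul_right _ (Nat.pow_le_pow_left hq 23)
    _ = q ^ (s + 23) := by rw [← pow_add, add_comm]
    _ < q ^ (36 * m) := Nat.pow_lt_pow_right (by omega) h2

/-- `d = 2` -/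
theorem num_two {q : ℕ} (hq : 2 ≤ q) : (q ^ (2 * 2) - 1 - 1) ^ 20 < ((q ^ (2 * 2) - 1) / (q + 1)) ^ (2 * 20 - 4) := by
  rcases Nat.eq_or_lt_of_le hq with rfl | h3
  · norm_num
  · have h1 := le_deg_even (m := 3) hq (by norm_num) (by decide)
    have h2 := lt_pow_36_three (s := 80) h3 h1 (by norm_num)
    calc (q ^ (2 * 2) - 1 - 1) ^ 20 ≤ (q ^ 4) ^ 20 := Nat.pow_le_pow_left (by norm_num; omega) 20
      _ = q ^ 80 := by rw [← pow_mul]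
      _ < _ := h2

/-- `d ≥ 3` -/
theorem num_three {q d : ℕ} (hq : 2 ≤ q) (hd : 3 ≤ d) :
    (q ^ (2 * d) - 1 - 1) ^ 7 < ((q ^ (2 * d) - 1) / (q + 1)) ^ (2 * 7 - 4) := by
  have h1 := deg_even hq (even_two_mul d)
  obtain ⟨D, hD⟩ : ∃ D, D = (q ^ (2 * d) - 1) / (q + 1) := ⟨_, rfl⟩
  rw [← hD] at h1 ⊢
  obtain ⟨X, hX⟩ : ∃ X, X = q ^ (2 * d) - 1 := ⟨_, rfl⟩
  rw [← hX] at h1 ⊢
  have hN : q ^ 6 ≤ q ^ (2 * d) := Nat.pow_le_pow_right (by omega) (by omega)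
  have h64 : 64 ≤ q ^ 6 := by
    calc 64 = 2 ^ 6 := by norm_num
      _ ≤ q ^ 6 := Nat.pow_le_pow_left hq 6
  have hX2 : q ^ 6 - 1 ≤ X := by omega
  -- `(q + 1) ^ 10 < X ^ 3`
  have k1 : (2 * (q + 1)) ^ 10 ≤ (3 * q) ^ 10 := Nat.pow_le_pow_left (by omega) 10
  have k2 : (63 * q ^ 6) ^ 3 ≤ (64 * X) ^ 3 := Nat.pow_le_pow_left (by omega) 3
  have k3 : (q + 1) ^ 10 < X ^ 3 := by
    have h8 : 2 ^ 8 ≤ q ^ 8 := Nat.pow_le_pow_left hq 8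
    have e1 : (2 * (q + 1)) ^ 10 = 1024 * (q + 1) ^ 10 := by rw [mul_pow]; norm_num
    have e2 : (3 * q) ^ 10 = 59049 * q ^ 10 := by rw [mul_pow]; norm_num
    have e3 : (63 * q ^ 6) ^ 3 = 250047 * (q ^ 10 * q ^ 8) := by rw [mul_pow, ← pow_mul, ← pow_add]; norm_num
    have e4 : (64 * X) ^ 3 = 262144 * X ^ 3 := by rw [mul_pow]; norm_num
    rw [e1, e2] at k1
    rw [e3, e4] at k2
    have k4 : q ^ 10 * 2 ^ 8 ≤ q ^ 10 * q ^ 8 := Nat.mul_le_mul_left _ h8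
    have k5 : 0 < q ^ 10 := by positivity
    norm_num at k4
    omega
  have hX0 : 0 < X := by omega
  have k6 : (q + 1) ^ 10 * (X - 1) ^ 7 < (q + 1) ^ 10 * D ^ 10 := by
    have e5 : (q + 1) ^ 10 * D ^ 10 = X ^ 3 * X ^ 7 := by
      rw [← mul_pow, mul_comm (q + 1) D, h1, ← pow_add]
    rw [e5]
    calc (q + 1) ^ 10 * (X - 1) ^ 7 ≤ (q + 1) ^ 10 * X ^ 7 := Nat.mul_le_mul_left _ (Nat.pow_le_pow_left (by omega) 7)
      _ < X ^ 3 * X ^ 7 := Nat.mul_lt_mul_of_pos_right k3 (by positivity)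
  exact Nat.lt_of_mul_lt_mul_left k6

/-- `j = n`, `n` odd -/
theorem num_odd {q n : ℕ} (hq : 2 ≤ q) (hn : 5 ≤ n) (ho : Odd n) :
    (q ^ n) ^ 20 < ((q ^ n - q) / (q + 1)) ^ (2 * 20 - 4) := by
  obtain ⟨m, rfl⟩ : ∃ m, n = m + 1 := ⟨n - 1, by omega⟩
  rw [← pow_mul]
  exact lt_pow_36_two hq (le_deg_odd hq (by omega) ho) (by omega)

/-- `j = n - 1`, `n` even -/
theorem num_even {q n : ℕ} (hq : 2 ≤ q) (hn : 4 ≤ n) (he : Even n) :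
    (q ^ (n - 1)) ^ 20 < ((q ^ n - 1) / (q + 1)) ^ (2 * 20 - 4) := by
  obtain ⟨m, rfl⟩ : ∃ m, n = m + 1 := ⟨n - 1, by omega⟩
  rw [← pow_mul, Nat.add_sub_cancel]
  exact lt_pow_36_two hq (le_deg_even hq (by omega) he) (by omega)

/-- `j = n - 1`, `n ≥ 6` even -/
theorem num_even' {q n : ℕ} (hq : 2 ≤ q) (hn : 6 ≤ n) (he : Even n) :
    (q ^ (n - 1)) ^ 5 < ((q ^ n - 1) / (q + 1)) ^ (2 * 5 - 4) := by
  have h1 := deg_even hq he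
  obtain ⟨D, hD⟩ : ∃ D, D = (q ^ n - 1) / (q + 1) := ⟨_, rfl⟩
  rw [← hD] at h1 ⊢
  obtain ⟨m, rfl⟩ : ∃ m, n = m + 1 := ⟨n - 1, by omega⟩
  rw [Nat.add_sub_cancel]
  have h2 : q ^ (m + 1) = q ^ m * q := pow_succ _ _
  have h3 : 2 ^ 5 ≤ q ^ m := (Nat.pow_le_pow_left hq 5).trans (Nat.pow_le_pow_right (by omega) (by omega))
  have h4 : q ^ m * 2 ≤ q ^ m * q := Nat.mul_le_mul_left _ hq
  -- `(q + 1) ^ 6 (q ^ m) ^ 5 < (q ^ (m + 1) - 1) ^ 6`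
  have k1 : (2 * (q + 1)) ^ 6 ≤ (3 * q) ^ 6 := Nat.pow_le_pow_left (by omega) 6
  have k2 : (63 * (q ^ m * q)) ^ 6 ≤ (64 * (q ^ (m + 1) - 1)) ^ 6 := Nat.pow_le_pow_left (by omega) 6
  have e1 : (2 * (q + 1)) ^ 6 = 64 * (q + 1) ^ 6 := by rw [mul_pow]; norm_num
  have e2 : (3 * q) ^ 6 = 729 * q ^ 6 := by rw [mul_pow]; norm_num
  have e3 : (63 * (q ^ m * q)) ^ 6 = 62523502209 * ((q ^ m) ^ 6 * q ^ 6) := by rw [mul_pow, mul_pow]; norm_num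
  have e4 : (64 * (q ^ (m + 1) - 1)) ^ 6 = 68719476736 * (q ^ (m + 1) - 1) ^ 6 := by rw [mul_pow]; norm_num
  rw [e1, e2] at k1
  rw [e3, e4] at k2
  have k3 : (q + 1) ^ 6 * (q ^ m) ^ 5 < (q ^ (m + 1) - 1) ^ 6 := by
    have k4 : 64 * ((q + 1) ^ 6 * (q ^ m) ^ 5) ≤ 729 * (q ^ 6 * (q ^ m) ^ 5) := by
      calc 64 * ((q + 1) ^ 6 * (q ^ m) ^ 5) = (64 * (q + 1) ^ 6) * (q ^ m) ^ 5 := by ring
        _ ≤ (729 * q ^ 6) * (q ^ m) ^ 5 := Nat.mul_le_mul_right _ k1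
        _ = _ := by ring
    have k5 : (q ^ m) ^ 6 * q ^ 6 = (q ^ 6 * (q ^ m) ^ 5) * q ^ m := by ring
    have k6 : (q ^ 6 * (q ^ m) ^ 5) * 2 ^ 5 ≤ (q ^ 6 * (q ^ m) ^ 5) * q ^ m := Nat.mul_le_mul_left _ h3
    have k7 : 0 < q ^ 6 * (q ^ m) ^ 5 := by positivity
    rw [k5] at k2
    norm_num at k6
    omega
  rw [← h1, mul_pow, mul_comm (D ^ 6)] at k3
  exact Nat.lt_of_mul_lt_mul_left k3

/-- `SU_5`, `j = 3` -/
theorem num_five {q : ℕ} (hq : 3 ≤ q) : (q ^ 6) ^ 20 < ((q ^ 5 - q) / (q + 1)) ^ (2 * 20 - 4) := by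
  rw [← pow_mul]
  exact lt_pow_36_three hq (le_deg_odd (m := 4) (by omega) (by norm_num) (by decide)) (by norm_num)

end Cfsg.Agent.H779.DP
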