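import Mathlib
import Cfsg.Agent.H779.DP.ULev
import Cfsg.Agent.H514.DP.Cyc
import Cfsg.Agent.H514.DP.Core

/-!
# Elements of `SU_n` with a large fixed space, windows (S2454, row PSU)

* `pe_of_fix` : `g` fixes an orthonormal family of `n - m` vectors, `PW p c (SU m F q)` : `PE p c g`;
* `pe_lev_emb` : the image of a block of size `w`, `2 w ≤ m`;
* `pe_lev_comp` : the image of a companion matrix.
-/

set_option autoImplicit false
set_option linter.unusedSectionVars false

namespace Cfsg.Agent.H779.DP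

open Cfsg Module Matrix Cfsg.Agent.LieClassical.HermBasic Cfsg.Agent.LieClassical.HermSiegel
open Cfsg.Agent.ClassicalGeometry.HermOrtho Cfsg.Agent.GpUn Cfsg.Agent.H514.DP
open Cfsg.Agent.KFacts.Unit (Frm)

variable {F : Type*} [Field F] [Fintype F] {q n d : ℕ} {e f : Fin d → (Fin n → F)}

/-- the span of an orthonormal family -/
theorem nd_span (hF : Fintype.card F = q ^ 2) {k : ℕ} {b : Fin k → (Fin n → F)}
    (hb : ∀ i j, hermForm n F q (b i) (b j) = if i = j then 1 else 0) :
    ND q (Submodule.span F (Set.range b)) ∧ finrank F (Submodule.span F (Set.range b)) = k := by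
  refine ⟨fun u hu h => ?_, ?_⟩
  · rw [Submodule.mem_span_range_iff_exists_fun] at hu
    obtain ⟨c, rfl⟩ := hu
    have hc : c = 0 := by
      funext j
      have := h (b j) (Submodule.subset_span ⟨j, rfl⟩)
      rwa [herm_sum_smul_left hb] at this
    rw [hc]
    simp
  · rw [finrank_span_eq_card (linearIndependent_of_orthonormal hb), Fintype.card_fin]

/-- **Elements with a large fixed space.** -/
theorem pe_of_fix (hF : Fintype.card F = q ^ 2) {p c k m : ℕ} (hPW : PW p c (SU m F q)) (hk : k + m = n)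
    {b : Fin k → (Fin n → F)} (hb : ∀ i j, hermForm n F q (b i) (b j) = if i = j then 1 else 0)
    {g : SU n F q} (hg : ∀ i, act g (b i) = b i) : PE p c g := by
  obtain ⟨hnd, hfr⟩ := nd_span hF hb
  obtain ⟨W, hW⟩ : ∃ W, W = Submodule.span F (Set.range b) := ⟨_, rfl⟩
  rw [← hW] at hnd hfr
  have hWg : W ≤ fx g := by
    rw [hW, Submodule.span_le]
    rintro _ ⟨i, rfl⟩
    exact hg i
  have h1 := finrank_hermPerp_of_nondeg hF W hnd
  obtain ⟨ε⟩ := exists_equiv hF (hermPerp q (W : Set (Fin n → F))) (hermPerp_nondeg hF W hnd) (m := m) (by omega)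
  have hfix : g ∈ fixG q (hermPerp q ((hermPerp q (W : Set (Fin n → F)) : Submodule F (Fin n → F)) : Set (Fin n → F))) := by
    intro w hw
    obtain ⟨w1, hw1, u, hu, rfl⟩ := exists_add_perp hF W hnd w
    have hu0 : u = 0 := by
      apply hermPerp_nondeg hF W hnd u hu
      intro v hv
      have h2 := hw v hv
      rw [herm_add_left, herm_eq_zero_swap hF (hv w1 hw1), zero_add] at h2
      exact h2
    rw [hu0, add_zero]
    exact hWg hw1
  have h2 := (hPW (ε.symm ⟨g, hfix⟩)).map ((fixG q _).subtype.comp ε.toMonoidHom)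
  have h3 : ((fixG q (hermPerp q ((hermPerp q (W : Set (Fin n → F)) : Submodule F (Fin n → F)) : Set (Fin n → F)))).subtype.comp
      ε.toMonoidHom) (ε.symm ⟨g, hfix⟩) = g := by
    show ((ε (ε.symm ⟨g, hfix⟩)) : SU n F q) = g
    rw [MulEquiv.apply_symm_apply]
  rwa [h3] at h2

/-- the frame of a window -/
theorem frm_comp {w : ℕ} (E : Frm q e f) (s : Fin w ↪ Fin d) : Frm q (e ∘ s) (f ∘ s) :=
  ⟨fun i j => E.ee _ _, fun i j => E.ff _ _, fun i j => by
    rw [Function.comp_apply, Function.comp_apply, E.ef]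
    simp only [s.injective.eq_iff]⟩

theorem embM_mulVec_of_zero {w : ℕ} (s : Fin w ↪ Fin d) (N : Matrix (Fin w) (Fin w) F) {c : Fin d → F}
    (hc : ∀ i, c (s i) = 0) : embM s N *ᵥ c = c := by
  funext x
  rw [mulVec, dotProduct, Finset.sum_eq_single x]
  · by_cases hx : x ∈ Set.range s
    · obtain ⟨i, rfl⟩ := hx
      rw [hc, mul_zero]
    · rw [embM_left s N hx, one_apply_eq, one_mul]
  · intro y _ hy
    by_cases hy' : y ∈ Set.range s
    · obtain ⟨i, rfl⟩ := hy'
      rw [hc, mul_zero]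
    · rw [embM_right s N x hy', one_apply_ne (Ne.symm hy), zero_mul]
  · intro h; exact absurd (Finset.mem_univ x) h

theorem dual_embM_mulVec_of_zero (hF : Fintype.card F = q ^ 2) {w : ℕ} (s : Fin w ↪ Fin d)
    (N : SpecialLinearGroup (Fin w) F) {c : Fin d → F} (hc : ∀ i, c (s i) = 0) : dual hF (emb s N) *ᵥ c = c := by
  have h1 : ((emb s N)⁻¹).1 = embM s (N⁻¹).1 := by rw [← map_inv]; rfl
  have h0 : ∀ x y : Fin d, dual hF (emb s N) x y = LieClassical.HermBasic.conj hF (embM s (N⁻¹).1 y x) := by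
    intro x y
    rw [dual, h1]
    rfl
  funext x
  rw [mulVec, dotProduct, Finset.sum_eq_single x]
  · by_cases hx : x ∈ Set.range s
    · obtain ⟨i, rfl⟩ := hx
      rw [hc, mul_zero]
    · rw [h0, embM_left s _ hx, one_apply_eq, map_one, one_mul]
  · intro y _ hy
    by_cases hy' : y ∈ Set.range s
    · obtain ⟨i, rfl⟩ := hy'
      rw [hc, mul_zero]
    · rw [h0, embM_left s _ hy', one_apply_ne hy, map_zero, zero_mul]
  · intro h; exact absurd (Finset.mem_univ x) h

/-- the image of a block is trivial on the orthogonal space of the window -/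
theorem act_lev_emb (hF : Fintype.card F = q ^ 2) (E : Frm q e f) {w : ℕ} (s : Fin w ↪ Fin d)
    (N : SpecialLinearGroup (Fin w) F) {v : Fin n → F} (hv : v ∈ Rp q (e ∘ s) (f ∘ s)) :
    act (lev hF E (emb s N)) v = v := by
  rw [mem_Rp] at hv
  rw [act_lev, sub_mulVec, sub_mulVec, one_mulVec, one_mulVec, dual_embM_mulVec_of_zero hF s N (fun i => congrFun hv.1 i),
    sub_self, cmb_zero, add_zero]
  show v + cmb e (embM s N.1 *ᵥ co q f v - co q f v) = v
  rw [embM_mulVec_of_zero s N.1 (fun i => congrFun hv.2 i), sub_self, cmb_zero, add_zero]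

/-- **Blocks.** -/
theorem pe_lev_emb (hF : Fintype.card F = q ^ 2) (E : Frm q e f) {p c w m : ℕ} (hPW : PW p c (SU m F q))
    (hw : 2 * w ≤ m) (hm : m ≤ n) (s : Fin w ↪ Fin d) (N : SpecialLinearGroup (Fin w) F) :
    PE p c (lev hF E (emb s N)) := by
  have E' := frm_comp E s
  have h1 := finrank_Rp hF E'
  obtain ⟨k, hk⟩ : ∃ k, k + m = n := ⟨n - m, by omega⟩
  obtain ⟨b, hbW, hb⟩ := exists_orthonormal hF (Rp q (e ∘ s) (f ∘ s)) (nd_Rp hF E') rfl
  have hle : k ≤ finrank F (Rp q (e ∘ s) (f ∘ s)) := by omega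
  refine pe_of_fix hF hPW hk (b := fun i => b (Fin.castLE hle i)) (fun i j => ?_) (fun i => ?_)
  · rw [hb]
    simp only [(Fin.castLE_injective hle).eq_iff]
  · exact act_lev_emb hF E s N (hbW _)

/-- **Companion matrices.** -/
theorem pe_lev_comp (hF : Fintype.card F = q ^ 2) (E : Frm q e f) {p c m : ℕ} (hPW : PW p c (SU m F q))
    (hd : 1 ≤ d) (hdm : d + 2 ≤ m) (hm : m ≤ n) (cf : ℕ → F) (h : (comp d cf).det = 1) :
    PE p (c + c) (lev hF E (compSL d cf h)) := by
  obtain ⟨a, b, rfl, ha, hb⟩ : ∃ a b, d = a + b + 1 ∧ 2 * (a + 1) ≤ m ∧ 2 * (b + 1) ≤ m :=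
    ⟨d / 2, d - 1 - d / 2, by omega, by omega, by omega⟩
  obtain ⟨c', c'', h', h'', he⟩ := exists_comp_mul a b cf h
  rw [he, map_mul]
  exact (pe_lev_emb hF E hPW ha hm _ _).mul (pe_lev_emb hF E hPW hb hm _ _)

end Cfsg.Agent.H779.DP
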