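import Mathlib
import Cfsg.Agent.H779.DP.UWin
import Cfsg.Agent.H779.DP.UGen
import Cfsg.Agent.H779.DP.UNum
import Cfsg.Agent.H779.DP.UCls
import Cfsg.Agent.H514.DP.SLRes
import Cfsg.Agent.TitsThree.UFrame
import Cfsg.Agent.S2334
import Cfsg.Agent.S2335
import Cfsg.Prelude.Def_LieTypeChar

/-!
# `PSU_n(q)`, `n ≥ 4`, is a product of seventy `p`-elements (S2454)

* `pw_SU` : `SU_n(q)`, `n ≥ 4`, not `(4, 2)`, `(4, 3)`;
* `pw_psu` : the row `PSU`, `n ≥ 4`.
-/

set_option autoImplicit false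
set_option linter.unusedSectionVars false

namespace Cfsg.Agent.H779.DP

open Cfsg Module Matrix Cfsg.Agent.LieClassical.HermBasic Cfsg.Agent.LieClassical.HermSiegel
open Cfsg.Agent.H514.DP Cfsg.Agent.H948.UProd
open Cfsg.Agent.KFacts.Unit (Frm)

theorem MinDeg.anti {G : Type*} [Group G] {a b : ℕ} (h : MinDeg G a) (hab : b ≤ a) : MinDeg G b :=
  fun k ρ hρ hk => hab.trans (h k ρ hρ hk)

variable {F : Type*} [Field F] [Fintype F] {q n d : ℕ}

theorem minDeg_even (hF : Fintype.card F = q ^ 2) (hn : 4 ≤ n) (he : Even n)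
    (hex : (n, q) ≠ (4, 2) ∧ (n, q) ≠ (4, 3)) : MinDeg (SU n F q) ((q ^ n - 1) / (q + 1)) := by
  classical
  exact S2335.result n q hn he hF hex

theorem minDeg_odd (hF : Fintype.card F = q ^ 2) (hn : 5 ≤ n) (ho : Odd n) :
    MinDeg (SU n F q) ((q ^ n - q) / (q + 1)) := by
  classical
  refine S2334.result n q (by omega) ho hF ?_
  intro h
  rw [Prod.mk.injEq] at h
  omega

/-- the common bound -/
theorem minDeg_common (hF : Fintype.card F = q ^ 2) (hd : 2 ≤ d) (hn : n = 2 * d ∨ n = 2 * d + 1)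
    (hex : (n, q) ≠ (4, 2) ∧ (n, q) ≠ (4, 3)) : MinDeg (SU n F q) ((q ^ (2 * d) - 1) / (q + 1)) := by
  rcases hn with rfl | rfl
  · exact minDeg_even hF (by omega) (even_two_mul d) hex
  · refine MinDeg.anti (minDeg_odd hF (by omega) ⟨d, rfl⟩) (Nat.div_le_div_right ?_)
    have h1 : 1 ≤ q ^ (2 * d) := Nat.one_le_pow _ _ (q_pos hF)
    have h2 : 1 ≤ q := q_pos hF
    have h3 : q ^ (2 * d + 1) - q = (q ^ (2 * d) - 1) * q := by rw [Nat.sub_mul, one_mul, pow_succ]
    rw [h3]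
    exact Nat.le_mul_of_pos_right _ h2

theorem perfect_SU' (hF : Fintype.card F = q ^ 2) (hn : 4 ≤ n) : commutator (SU n F q) = ⊤ :=
  Cfsg.Agent.LieClassical.HermPerfect.commutator_SU_eq_top hF (by omega) (by omega)

theorem exists_frm (hF : Fintype.card F = q ^ 2) (hn : 2 * d ≤ n) :
    ∃ e f : Fin d → (Fin n → F), Frm q e f := by
  obtain ⟨W, -, -⟩ := Cfsg.Agent.TitsThree.UFrame.exists_frame hF hn
  exact ⟨W.e, W.f, W.ee, W.ff, W.ef⟩

/-- The Singer element is a companion matrix in a suitable basis. -/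
theorem exists_comp_singer (F : Type*) [Field F] [Finite F] (hd : 2 ≤ d) :
    ∃ (K : Type) (_ : Field K) (_ : Algebra F K) (b : Module.Basis (Fin d) F K) (z : K) (h : Algebra.norm F z = 1)
      (c : ℕ → F) (hc : (comp d c).det = 1), Algebra.adjoin F {z} = ⊤ ∧
      orderOf z = (Nat.card F ^ d - 1) / (Nat.card F - 1) ∧ sing b z h = compSL d c hc := by
  obtain ⟨K, _, _, ⟨b0⟩⟩ := exists_ext (F := F) (n := d) (by omega)
  obtain ⟨z, hz1, hz2, hz3⟩ := exists_singer_norm_one b0 hd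
  have : Module.Finite F K := Module.Finite.of_basis b0
  have hint : IsIntegral F z := Algebra.IsIntegral.isIntegral z
  let pb : PowerBasis F K := PowerBasis.ofAdjoinEqTop hint hz3
  have hdim : pb.dim = d := by
    rw [← pb.finrank, Module.finrank_eq_card_basis b0, Fintype.card_fin]
  have hgen : pb.gen = z := rfl
  let b : Module.Basis (Fin d) F K := pb.basis.reindex (finCongr hdim)
  have hmat : Algebra.leftMulMatrix b z = comp d fun i => -pb.minpolyGen.coeff i := by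
    ext i j
    have h1 := congrFun (congrFun pb.leftMulMatrix ((finCongr hdim).symm i)) ((finCongr hdim).symm j)
    rw [hgen, of_apply] at h1
    have h2 : Algebra.leftMulMatrix b z i j =
        Algebra.leftMulMatrix pb.basis z ((finCongr hdim).symm i) ((finCongr hdim).symm j) := by
      rw [Algebra.leftMulMatrix_apply, Algebra.leftMulMatrix_apply, LinearMap.toMatrix_apply, LinearMap.toMatrix_apply,
        Module.Basis.repr_reindex_apply, Module.Basis.reindex_apply]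
    rw [h2, h1, Cfsg.Agent.H514.DP.comp_apply]
    simp [hdim]
  have hc : (comp d fun i => -pb.minpolyGen.coeff i).det = 1 := by
    rw [← hmat, ← Algebra.norm_eq_matrix_det, hz1]
  exact ⟨K, _, _, b, z, hz1, fun i => -pb.minpolyGen.coeff i, hc, hz3, hz2, Subtype.ext hmat⟩

/-- **Singer elements of the Siegel Levi subgroup.** -/
theorem pw_of_lev (hF : Fintype.card F = q ^ 2) (hd : 2 ≤ d) (hn : n = 2 * d ∨ n = 2 * d + 1)
    (hex : (n, q) ≠ (4, 2) ∧ (n, q) ≠ (4, 3)) {p m k : ℕ} (hk : 3 ≤ k)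
    (hnum : (q ^ (2 * d) - 1 - 1) ^ k < ((q ^ (2 * d) - 1) / (q + 1)) ^ (2 * k - 4))
    (hy : ∀ (e f : Fin d → (Fin n → F)) (E : Frm q e f) (c : ℕ → F) (hc : (comp d c).det = 1),
      PE p m (lev hF E (compSL d c hc))) : PW p (m * k) (SU n F q) := by
  obtain ⟨e, f, E⟩ := exists_frm (F := F) (n := n) (d := d) hF (by omega)
  obtain ⟨K, _, _, b, z, hz, c, hc, hz3, hz2, hs⟩ := exists_comp_singer (d := d) F hd
  have hcF : Nat.card F = q ^ 2 := by rw [Nat.card_eq_fintype_card, hF]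
  have hq := two_le hF
  have hQ : 1 < Nat.card F := Finite.one_lt_card
  have hord : Nat.card F ^ (d - 1) < orderOf z := by
    rw [hz2, Nat.lt_iff_add_one_le, Nat.le_div_iff_mul_le (by omega)]
    obtain ⟨t, rfl⟩ : ∃ t, d = t + 2 := ⟨d - 2, by omega⟩
    have h1 : t + 2 - 1 = t + 1 := by omega
    rw [h1]
    obtain ⟨Q, hQe⟩ : ∃ Q, Nat.card F = Q + 1 := ⟨Nat.card F - 1, by omega⟩
    rw [hQe, Nat.add_sub_cancel]
    have h2 : (Q + 1) ^ (t + 2) = (Q + 1) ^ (t + 1) * Q + (Q + 1) ^ (t + 1) := by ring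
    have h3 : (Q + 1) ^ 1 ≤ (Q + 1) ^ (t + 1) := Nat.pow_le_pow_right (by omega) (by omega)
    have h4 : ((Q + 1) ^ (t + 1) + 1) * Q = (Q + 1) ^ (t + 1) * Q + Q := by ring
    rw [pow_one] at h3
    omega
  have hgen := gen_sing hF b hd hz hz3 hord
  have hC := card_centralizer_lev_le hF E hgen (by omega) (by omega)
  rw [hcF, ← pow_mul, hs] at hC
  exact PW.of_pe (perfect_SU' hF (by omega)) (hy e f E c hc) (minDeg_common hF hd hn hex) hk
    (lt_of_small (Nat.sub_le_sub_right hC 1) hnum)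

/-- the prime divisors of `|SL_d(F)|` -/
theorem dvd_card_SL' {p i : ℕ} (hd : 2 ≤ d) (h : p ∣ Nat.card F ∨ (2 ≤ i ∧ i ≤ d ∧ p ∣ Nat.card F ^ i - 1)) :
    p ∣ Nat.card (SpecialLinearGroup (Fin d) F) := by
  classical
  have hQ : 1 < Nat.card F := Finite.one_lt_card
  obtain ⟨m, rfl⟩ : ∃ m, d = m + 1 := ⟨d - 1, by omega⟩
  have h1 := S0242.result (F := F) Nat.card_eq_fintype_card.symm (m + 1) (by omega)
  rw [Fin.prod_univ_castSucc] at h1
  have h2 : Nat.card F ^ (m + 1) - Nat.card F ^ ((Fin.last m : Fin (m + 1)) : ℕ) = (Nat.card F - 1) * Nat.card F ^ m := by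
    rw [Fin.val_last, Nat.sub_mul, one_mul, pow_succ, mul_comm]
  rw [h2] at h1
  have h3 : Nat.card (SpecialLinearGroup (Fin (m + 1)) F) =
      (∏ i : Fin m, (Nat.card F ^ (m + 1) - Nat.card F ^ ((i.castSucc : Fin (m + 1)) : ℕ))) * Nat.card F ^ m := by
    apply Nat.eq_of_mul_eq_mul_left (show 0 < Nat.card F - 1 by omega)
    rw [h1]
    ring
  rw [h3]
  rcases h with h | ⟨h4, h5, h6⟩
  · exact dvd_mul_of_dvd_right (h.trans (dvd_pow_self _ (by omega))) _
  · refine dvd_mul_of_dvd_left ?_ _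
    refine dvd_trans ?_ (Finset.dvd_prod_of_mem _ (Finset.mem_univ (⟨m + 1 - i, by omega⟩ : Fin m)))
    have h7 : Nat.card F ^ (m + 1) - Nat.card F ^ (((⟨m + 1 - i, by omega⟩ : Fin m).castSucc : Fin (m + 1)) : ℕ) =
        Nat.card F ^ (m + 1 - i) * (Nat.card F ^ i - 1) := by
      rw [Nat.mul_sub, mul_one, ← pow_add]
      congr 2
      omega
    rw [h7]
    exact h6.mul_left _

/-- `p` divides `q (q ^ 2 - 1) ... (q ^ (2 d) - 1)`. -/
theorem pw_A (hF : Fintype.card F = q ^ 2) (hd : 2 ≤ d) (hn : n = 2 * d ∨ n = 2 * d + 1)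
    (hex : (n, q) ≠ (4, 2) ∧ (n, q) ≠ (4, 3)) {p : ℕ} (hp : p.Prime)
    (h : p ∣ q ∨ ∃ i, 1 ≤ i ∧ i ≤ d ∧ p ∣ Nat.card F ^ i - 1) : PW p 70 (SU n F q) := by
  have hcF : Nat.card F = q ^ 2 := by rw [Nat.card_eq_fintype_card, hF]
  have hq := two_le hF
  have h' : p ∣ Nat.card F ∨ ∃ i, 2 ≤ i ∧ i ≤ d ∧ p ∣ Nat.card F ^ i - 1 := by
    rcases h with h | ⟨i, hi1, hid, hi⟩
    · left; rw [hcF]; exact h.trans (dvd_pow_self _ two_ne_zero)
    · right
      rcases Nat.eq_or_lt_of_le hi1 with rfl | hi2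
      · refine ⟨2, le_rfl, hd, hi.trans ?_⟩
        have := Nat.sub_dvd_pow_sub_pow (Nat.card F) 1 2
        simpa using this
      · exact ⟨i, hi2, hid, hi⟩
  rcases Nat.eq_or_lt_of_le hd with rfl | hd3
  · -- `d = 2`
    have hd' : CharP F p ∨ (p ∣ Nat.card F ^ 2 - 1 ∧ 4 ≤ Nat.card F) := by
      rcases h' with h' | ⟨i, hi1, hid, hi⟩
      · left
        obtain ⟨r, hr⟩ := CharP.exists F
        have hrp : r.Prime := CharP.char_is_prime F r
        obtain ⟨k, -, hk⟩ := FiniteField.card F r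
        rw [Nat.card_eq_fintype_card, hk] at h'
        have h4 : p = r := (Nat.prime_dvd_prime_iff_eq hp hrp).1 (hp.dvd_of_dvd_pow h')
        rw [h4]; exact hr
      · right
        have : i = 2 := by omega
        subst this
        exact ⟨hi, by rw [hcF]; nlinarith⟩
    refine (pw_of_lev (m := 3) hF le_rfl hn hex (by norm_num) (num_two hq) fun e f E c hc => ?_).mono (by norm_num)
    refine (pe_three_of_nonscalar hp hd' _ ?_).map _
    intro a ha
    have h1 := congrFun (congrFun ha 1) 0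
    change comp 2 c 1 0 = _ at h1
    rw [Cfsg.Agent.H514.DP.comp_apply, Matrix.smul_apply, one_apply_ne (by decide), smul_zero] at h1
    simp at h1
  · have hdv : p ∣ Nat.card (SpecialLinearGroup (Fin d) F) := by
      rcases h' with h' | ⟨i, hi1, hid, hi⟩
      · exact dvd_card_SL' (i := 0) (by omega) (Or.inl h')
      · exact dvd_card_SL' (by omega) (Or.inr ⟨hi1, hid, hi⟩)
    exact pw_of_lev (m := 10) hF (by omega) hn hex (by norm_num) (num_three hq hd3)
      fun e f E c hc => (pe_compSL hp (by omega) hdv c hc).map _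

/-- elements of order `p` -/
theorem pw_of_prime (hF : Fintype.card F = q ^ 2) (hn : 4 ≤ n) {p j : ℕ} (hp : p.Prime) (hpF : (p : F) ≠ 0)
    (hj : orderOf ((Nat.card F : ℕ) : ZMod p) = j) (hodd : Odd j) (h1 : j ≤ n) (h2 : n < 2 * j)
    (hdv : p ∣ Nat.card (SU n F q)) {D k N m : ℕ} (hm : m + j = n) (hN : (q ^ j + 1) * Nat.card (SU m F q) ≤ N + 1)
    (hD : MinDeg (SU n F q) D) (hk : 3 ≤ k) (hb : N ^ k < D ^ (2 * k - 4)) : PW p k (SU n F q) := by
  have : Fact p.Prime := ⟨hp⟩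
  have : Finite (SU n F q) := inferInstance
  obtain ⟨x, hx⟩ := exists_prime_orderOf_dvd_card' p hdv
  have hxp : x ^ p = 1 := by rw [← hx, pow_orderOf_eq_one]
  have hx1 : x ≠ 1 := by
    rintro rfl
    rw [orderOf_one] at hx
    exact hp.one_lt.ne hx
  have hC := (card_centralizer_prime_le hF hp hpF hxp hx1 hj hodd h2 hm).trans hN
  have h3 := PW.of_pe (perfect_SU' hF hn) (IsPE.of_prime hx).pe hD hk
    (lt_of_small (show Nat.card (Subgroup.centralizer ({x} : Set (SU n F q))) - 1 ≤ N by omega) hb)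
  rwa [one_mul] at h3

/-- `p` divides `q ^ j + 1`, `j` odd, `j > d`. -/
theorem pw_B (hF : Fintype.card F = q ^ 2) (hd : 2 ≤ d) (hn : n = 2 * d ∨ n = 2 * d + 1)
    (hex : (n, q) ≠ (4, 2) ∧ (n, q) ≠ (4, 3)) {p j : ℕ} (hp : p.Prime) (hpF : (p : F) ≠ 0)
    (hj : orderOf ((Nat.card F : ℕ) : ZMod p) = j) (hodd : Odd j) (h1 : j ≤ n) (h2 : d < j) (h3 : p ∣ q ^ j + 1) :
    PW p 70 (SU n F q) := by
  have hcF : Nat.card F = q ^ 2 := by rw [Nat.card_eq_fintype_card, hF]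
  have hq := two_le hF
  have hj1 : 1 ≤ j := by omega
  have hph : p ∣ ph q (j - 1) := by
    have hev : Even (j - 1) := Nat.Odd.sub_odd hodd odd_one
    rw [ph, if_pos hev, Nat.sub_add_cancel hj1]
    exact h3
  have hdv : ∀ m, 2 ≤ m → j ≤ m → p ∣ Nat.card (SU m F q) := fun m hm hjm =>
    dvd_card_SU hF hm (by omega) hph
  have hc1 : ∀ m, m ≤ 1 → (q ^ j + 1) * Nat.card (SU m F q) ≤ q ^ j + 1 := by
    intro m hm
    calc (q ^ j + 1) * Nat.card (SU m F q) ≤ (q ^ j + 1) * 1 := Nat.mul_le_mul_left _ (card_SU_le_one hm)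
      _ = _ := mul_one _
  rcases Nat.eq_or_lt_of_le h1 with hjn | hjn
  · -- `j = n`
    have ho : Odd n := hjn ▸ hodd
    have hn5 : 5 ≤ n := by
      obtain ⟨t, ht⟩ := ho
      omega
    refine (pw_of_prime (m := 0) (N := q ^ n) hF (by omega) hp hpF hj hodd h1 (by omega) (hdv n (by omega) h1) (by omega) ?_
      (minDeg_odd hF hn5 ho) (by norm_num) (num_odd hq hn5 ho)).mono (by norm_num)
    rw [← hjn]
    exact hc1 0 (by norm_num)
  rcases Nat.eq_or_lt_of_le (Nat.succ_le_of_lt hjn) with hjn2 | hjn2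
  · -- `j = n - 1`
    have hjn3 : j = n - 1 := by omega
    have he : Even n := by
      obtain ⟨t, ht⟩ := hodd
      exact ⟨t + 1, by omega⟩
    refine (pw_of_prime (m := 1) (N := q ^ (n - 1)) hF (by omega) hp hpF hj hodd h1 (by omega) (hdv n (by omega) h1)
      (by omega) ?_ (minDeg_even hF (by omega) he hex) (by norm_num) (num_even hq (by omega) he)).mono (by norm_num)
    rw [← hjn3]
    exact hc1 1 le_rfl
  rcases Nat.eq_or_lt_of_le hd with rfl | hd3
  · -- `n = 5`, `j = 3`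
    have hn5 : n = 5 := by omega
    subst hn5
    have hj3 : j = 3 := by omega
    subst hj3
    have hq3 : 3 ≤ q := by
      by_contra hlt
      have hq2 : q = 2 := by omega
      subst hq2
      have h4 : p ∣ 3 ^ 2 := by norm_num at h3 ⊢; exact h3
      have h5 : p = 3 := (Nat.prime_dvd_prime_iff_eq hp Nat.prime_three).1 (hp.dvd_of_dvd_pow h4)
      subst h5
      rw [hcF, show (((2 : ℕ) ^ 2 : ℕ) : ZMod 3) = 1 by decide, orderOf_one] at hj
      omega
    refine (pw_of_prime (m := 2) (N := q ^ 6) hF (by omega) hp hpF hj hodd h1 (by omega) (hdv 5 (by omega) h1)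
      (by omega) ?_ (minDeg_odd hF le_rfl (by decide)) (by norm_num) (num_five hq3)).mono (by norm_num)
    rw [card_SU hF (by norm_num)]
    have h6 : (2 * (2 - 1) / 2 : ℕ) = 1 := by norm_num
    rw [h6, show (2 - 1 : ℕ) = 1 by norm_num, Finset.prod_range_one, ph, if_neg (by decide), pow_one]
    obtain ⟨t, rfl⟩ : ∃ t, q = t + 1 := ⟨q - 1, by omega⟩
    have h7 : (t + 1) ^ (0 + 1 + 1) - 1 = t * (t + 2) := by
      have : (t + 1) ^ (0 + 1 + 1) = t * (t + 2) + 1 := by ring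
      omega
    rw [h7]
    nlinarith [sq_nonneg t, Nat.zero_le t]
  · -- windows
    obtain ⟨t, ht⟩ := hodd
    have hodd : Odd j := ⟨t, ht⟩
    have hPW : PW p 5 (SU (j + 1) F q) := by
      refine pw_of_prime (m := 1) (N := q ^ (j + 1 - 1)) hF (by omega) hp hpF hj hodd (by omega) (by omega)
        (hdv (j + 1) (by omega) (by omega)) (by omega) ?_
        (minDeg_even hF (by omega) ⟨t + 1, by omega⟩ ⟨?_, ?_⟩) (by norm_num)
        (num_even' hq (by omega) ⟨t + 1, by omega⟩)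
      · rw [Nat.add_sub_cancel]
        exact hc1 1 le_rfl
      · intro h; rw [Prod.mk.injEq] at h; omega
      · intro h; rw [Prod.mk.injEq] at h; omega
    exact pw_of_lev (m := 10) hF (by omega) hn hex (by norm_num) (num_three hq hd3)
      fun e f E c hc => pe_lev_comp hF E hPW (by omega) (by omega) (by omega) c hc

/-- the case split -/
theorem cases_p (hF : Fintype.card F = q ^ 2) (hd : 2 ≤ d) (hn : n = 2 * d ∨ n = 2 * d + 1) {p : ℕ} (hp : p.Prime)
    (hdv : p ∣ Nat.card (PSU n F q)) :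
    (p ∣ q ∨ ∃ i, 1 ≤ i ∧ i ≤ d ∧ p ∣ Nat.card F ^ i - 1) ∨
      ∃ j, Odd j ∧ d < j ∧ j ≤ n ∧ p ∣ q ^ j + 1 ∧ orderOf ((Nat.card F : ℕ) : ZMod p) = j := by
  have hcF : Nat.card F = q ^ 2 := by rw [Nat.card_eq_fintype_card, hF]
  have hq := two_le hF
  rcases prime_dvd_card_PSU hF (by omega) hp hdv with h | ⟨i, hi, h⟩
  · exact Or.inl (Or.inl h)
  unfold ph at h
  split_ifs at h with hev
  · -- `p ∣ q ^ (i + 1) + 1`, `i + 1` odd
    obtain ⟨s, hs⟩ : ∃ s, s = i + 1 := ⟨_, rfl⟩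
    rw [← hs] at h
    have hsodd : Odd s := by rw [hs]; exact hev.add_one
    have hs2 : p ∣ Nat.card F ^ s - 1 := by
      have h1 : Nat.card F ^ s - 1 = (q ^ s + 1) * (q ^ s - 1) := by
        have := Nat.sq_sub_sq (q ^ s) 1
        rw [one_pow] at this
        rw [← this, hcF, ← pow_mul, ← pow_mul, mul_comm]
      rw [h1]
      exact h.mul_right _
    by_cases hsd : s ≤ d
    · exact Or.inl (Or.inr ⟨s, by omega, hsd, hs2⟩)
    have : Fact p.Prime := ⟨hp⟩
    have hdo : ∀ k, p ∣ Nat.card F ^ k - 1 ↔ orderOf ((Nat.card F : ℕ) : ZMod p) ∣ k := by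
      intro k
      rw [orderOf_dvd_iff_pow_eq_one, ← ZMod.natCast_eq_zero_iff, Nat.cast_sub (Nat.one_le_pow _ _ Nat.card_pos),
        sub_eq_zero, Nat.cast_pow, Nat.cast_one]
    have ho := (hdo s).1 hs2
    obtain ⟨c, hc⟩ := ho
    obtain ⟨o, hoe⟩ : ∃ o, o = orderOf ((Nat.card F : ℕ) : ZMod p) := ⟨_, rfl⟩
    rw [← hoe] at hc
    rcases (by
      rcases c with _ | _ | _ | c
      · exact Or.inl rfl
      · exact Or.inr (Or.inl rfl)
      · exact Or.inr (Or.inr (Or.inl rfl))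
      · exact Or.inr (Or.inr (Or.inr (by omega))) : c = 0 ∨ c = 1 ∨ c = 2 ∨ 3 ≤ c) with rfl | rfl | rfl | hc3
    · omega
    · refine Or.inr ⟨s, hsodd, by omega, by omega, h, ?_⟩
      rw [← hoe]; omega
    · exfalso
      obtain ⟨t, ht⟩ := hsodd
      omega
    · left; right
      have h3 : o * 3 ≤ s := by rw [hc]; exact Nat.mul_le_mul_left _ hc3
      refine ⟨o, ?_, by omega, (hdo o).2 (by rw [hoe])⟩
      rcases Nat.eq_zero_or_pos o with h0 | h0
      · rw [h0, zero_mul] at hc; omega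
      · exact h0
  · -- `p ∣ q ^ (i + 1) - 1`, `i + 1` even
    obtain ⟨t, ht⟩ := Nat.not_even_iff_odd.1 hev
    left; right
    refine ⟨t + 1, by omega, by omega, ?_⟩
    have h1 : Nat.card F ^ (t + 1) = q ^ (i + 1) := by
      rw [hcF, ← pow_mul]
      congr 1
      omega
    rw [h1]
    exact h

/-- **`SU_n(q)`.** -/
theorem pw_SU (hF : Fintype.card F = q ^ 2) (hn : 4 ≤ n) (hex : (n, q) ≠ (4, 2) ∧ (n, q) ≠ (4, 3)) {p : ℕ}
    (hp : p.Prime) (hdv : p ∣ Nat.card (PSU n F q)) : PW p 70 (SU n F q) := by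
  obtain ⟨d, hd, hnd⟩ : ∃ d, 2 ≤ d ∧ (n = 2 * d ∨ n = 2 * d + 1) := ⟨n / 2, by omega, by omega⟩
  by_cases hpq : p ∣ q
  · exact pw_A hF hd hnd hex hp (Or.inl hpq)
  rcases cases_p hF hd hnd hp hdv with h | ⟨j, hodd, hdj, hjn, hj, ho⟩
  · exact pw_A hF hd hnd hex hp h
  · refine pw_B hF hd hnd hex hp ?_ ho hodd hjn hdj hj
    intro h0
    apply hpq
    obtain ⟨r, hr⟩ := CharP.exists F
    have hrp : r.Prime := CharP.char_is_prime F r
    obtain ⟨k, -, hk⟩ := FiniteField.card F r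
    have h1 : p = r := ((Nat.prime_dvd_prime_iff_eq hrp hp).1 ((CharP.cast_eq_zero_iff F r p).1 h0)).symm
    have h2 : r ∣ q ^ 2 := by rw [← hF, hk]; exact dvd_pow_self _ k.ne_zero
    rw [h1]
    exact hrp.dvd_of_dvd_pow h2

/-- **`PSU_n(q)`, `n ≥ 4`.** -/
theorem pw_PSU {S : Type*} [Group S] [Finite S] [IsSimpleGroup S] (hF : Fintype.card F = q ^ 2) (hn : 4 ≤ n)
    (e : S ≃* PSU n F q) {p : ℕ} (hp : p.Prime) (hdv : p ∣ Nat.card S) : PW p 70 S := by
  by_cases h42 : n = 4 ∧ (q = 2 ∨ q = 3)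
  · obtain ⟨rfl, hq⟩ := h42
    exact pw_psu_four hF hq e hp hdv
  · rw [Nat.card_congr e.toEquiv] at hdv
    refine PW.congr (PW.map (pw_SU hF hn ⟨?_, ?_⟩ hp hdv) (QuotientGroup.mk' _) (QuotientGroup.mk'_surjective _)) e.symm
    · intro h; rw [Prod.mk.injEq] at h; exact h42 ⟨h.1, Or.inl h.2⟩
    · intro h; rw [Prod.mk.injEq] at h; exact h42 ⟨h.1, Or.inr h.2⟩

/-- **The row `PSU`**, from the case `n = 3`. -/
theorem pw_psu_of {S : Type*} [Group S] [Finite S] [IsSimpleGroup S] {l : ℕ} (h : IsPSUChar l S) {p : ℕ} (hp : p.Prime)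
    (hdv : p ∣ Nat.card S)
    (h3 : ∀ (F : Type) [Field F] [Fintype F] (q : ℕ), Fintype.card F = q ^ 2 → q ≠ 2 → Nonempty (S ≃* PSU 3 F q) →
      PW p 70 S) : PW p 70 S := by
  obtain ⟨F, _, _, _, n, q, hF, hn, h32, ⟨e⟩⟩ := h
  rcases Nat.eq_or_lt_of_le hn with rfl | hn4
  · exact h3 F q hF (fun h => h32 ⟨rfl, h⟩) ⟨e⟩
  · exact pw_PSU hF hn4 e hp hdv

end Cfsg.Agent.H779.DP
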